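import Groth.Agent.Pi1Desc.QuasiAffine
import Mathlib.AlgebraicGeometry.ZariskisMainTheorem

/-!
# Separated quasi-finite morphisms are quasi-affine
-/

universe u

set_option autoImplicit false
set_option backward.isDefEq.respectTransparency false

open CategoryTheory Limits AlgebraicGeometry

namespace Groth.Pi1Desc

theorem isQuasiAffineHom_of_locallyQuasiFinite {X Y : Scheme.{u}} (f : X ⟶ Y) [LocallyQuasiFinite f]
    [LocallyOfFiniteType f] [IsSeparated f] [QuasiCompact f] : MoreMor.IsQuasiAffineHom f := by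
  refine ⟨inferInstance, fun W hW => ?_⟩
  have hN : IsAffineOpen (f.fromNormalization ⁻¹ᵁ W) := hW.preimage f.fromNormalization
  haveI : IsAffine (f.fromNormalization ⁻¹ᵁ W).toScheme := hN
  haveI : CompactSpace (f ⁻¹ᵁ W).toScheme := isCompact_iff_compactSpace.mp (f.isCompact_preimage hW.isCompact)
  have e : f ⁻¹ᵁ W ≤ f.toNormalization ⁻¹ᵁ (f.fromNormalization ⁻¹ᵁ W) := by
    rw [← Scheme.Hom.comp_preimage, f.toNormalization_fromNormalization]
  haveI : IsImmersion (f.toNormalization.resLE _ _ e ≫ (f.fromNormalization ⁻¹ᵁ W).ι) := by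
    rw [Scheme.Hom.resLE_comp_ι]; infer_instance
  haveI : IsImmersion (f.toNormalization.resLE _ _ e) := IsImmersion.of_comp _ (f.fromNormalization ⁻¹ᵁ W).ι
  exact .of_isImmersion (f.toNormalization.resLE _ _ e)

end Groth.Pi1Desc
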