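import Groth.Agent.Pi1Desc.Act

/-!
# An action as a descent datum
-/

universe u

set_option autoImplicit false
set_option backward.isDefEq.respectTransparency false

open CategoryTheory Limits AlgebraicGeometry TopologicalSpace

namespace Groth.Pi1Desc

variable {V X S : Scheme.{u}} {h : V ⟶ X} {p : X ⟶ S}

theorem Act.cond_lifts {T : Scheme.{u}} {x₀ x₁ : T ⟶ X} (e : x₀ ≫ p = x₁ ≫ p)
    (v : Desc.Lifts (Over.mk h) x₀) : v.1 ≫ h ≫ p = x₁ ≫ p := by
  have hv : v.1 ≫ h = x₀ := v.2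
  rw [← Category.assoc, hv, e]

/-- An action as a descent datum. -/
noncomputable def Act.toSchDD (A : Act h p) : Desc.SchDD p where
  obj := Over.mk h
  φ T x₀ x₁ e :=
    { toFun := fun v => ⟨A.act v.1 x₁ (Act.cond_lifts e v), A.act_hom _ _ _⟩
      invFun := fun v => ⟨A.act v.1 x₀ (Act.cond_lifts e.symm v), A.act_hom _ _ _⟩
      left_inv := fun v => Subtype.ext <|
        (A.act_act _ _ _ _ (Act.cond_lifts rfl v) _).trans (A.act_self _ _ _ v.2)
      right_inv := fun v => Subtype.ext <|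
        (A.act_act _ _ _ _ (Act.cond_lifts rfl v) _).trans (A.act_self _ _ _ v.2) }
  φ_natural T T' g x₀ x₁ e e' v v' hv' := by
    change A.act v'.1 (g ≫ x₁) _ = g ≫ A.act v.1 x₁ _
    rw [A.comp_act]
    exact A.congr hv' rfl _ _
  φ_self T x v := Subtype.ext (A.act_self _ _ _ v.2)
  φ_comp T x₀ x₁ x₂ e₁ e₂ v := Subtype.ext (A.act_act _ _ _ _ _ _)

/-- Effectiveness of the associated descent datum gives a quotient of the action. -/
theorem eff_of_effective (h : V ⟶ X) (p : X ⟶ S) (A : Act h p) {P : MorphismProperty Scheme.{u}}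
    (H : ∀ D : Desc.SchDD p, P D.obj.hom → ∃ U : Over S, Nonempty ((Desc.toDD p).obj U ≅ D)) (hP : P h) :
    A.Eff := by
  obtain ⟨U, ⟨α⟩⟩ := H A.toSchDD hP
  let i : V ⟶ pullback p U.hom := α.inv.hom.left
  have hi : i ≫ pullback.fst p U.hom = h := Over.w α.inv.hom
  have h1 : i ≫ α.hom.hom.left = 𝟙 V := by
    simp only [i, ← Over.comp_left, ← Desc.SchDD.comp_hom, α.inv_hom_id]; rfl
  have h2 : α.hom.hom.left ≫ i = 𝟙 _ := by
    simp only [i, ← Over.comp_left, ← Desc.SchDD.comp_hom, α.hom_inv_id]; rfl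
  haveI : IsIso i := ⟨α.hom.hom.left, h1, h2⟩
  refine ⟨U.left, U.hom, i ≫ pullback.snd p U.hom, ?_, fun T v x e => ?_⟩
  · refine (IsPullback.of_hasPullback p U.hom).flip.of_iso (asIso i).symm (Iso.refl _) (Iso.refl _) (Iso.refl _)
      ?_ ?_ (by simp) (by simp)
    · simp
    · simp [← hi]
  · have hv : (v ≫ i) ≫ pullback.fst p U.hom = v ≫ h := by rw [Category.assoc, hi]
    have key := α.inv.comm (v ≫ h) x ((Category.assoc _ _ _).trans e) ⟨v, rfl⟩ ⟨v ≫ i, hv⟩ rfl
    have key2 : (Desc.canMap p U (v ≫ h) x ((Category.assoc _ _ _).trans e) ⟨v ≫ i, hv⟩).1 = A.act v x e ≫ i := key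
    have key3 := congrArg (· ≫ pullback.snd p U.hom) key2
    simpa [Category.assoc] using key3.symm

end Groth.Pi1Desc
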