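import Mathlib.Algebra.Category.Ring.Constructions
import Mathlib.RingTheory.Flat.Equalizer
import Mathlib.RingTheory.RingHom.Flat

/-!
# Equalizers of rings and flat base change
-/

universe u

set_option autoImplicit false
set_option backward.isDefEq.respectTransparency false

open CategoryTheory CategoryTheory.Limits TensorProduct

namespace Groth.Pi1Desc

/-- Elements equalized after a flat base change come from the equalizer. -/
theorem mem_range_of_equalized {A B D₁ D₂ E₀ E₁ E₂ : CommRingCat.{u}} {f : A ⟶ B} (hf : f.hom.Flat)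
    {a₁ : A ⟶ D₁} {a₂ : A ⟶ D₂} {u v : D₁ ⟶ D₂} (hu : a₁ ≫ u = a₂) (hv : a₁ ≫ v = a₂)
    {l₁ : D₁ ⟶ E₁} {r₁ : B ⟶ E₁} (H₁ : IsPushout a₁ f l₁ r₁)
    {l₂ : D₂ ⟶ E₂} {r₂ : B ⟶ E₂} (H₂ : IsPushout a₂ f l₂ r₂)
    {U V : E₁ ⟶ E₂} (hlU : l₁ ≫ U = u ≫ l₂) (hrU : r₁ ≫ U = r₂) (hlV : l₁ ≫ V = v ≫ l₂)
    (hrV : r₁ ≫ V = r₂) (e₀ : E₀ ⟶ E₁) (hB : ∀ b, r₁ b ∈ e₀.hom.range)
    (hD : ∀ d, u d = v d → l₁ d ∈ e₀.hom.range) {x : E₁} (hx : U x = V x) : x ∈ e₀.hom.range := by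
  letI : Algebra A B := f.hom.toAlgebra
  letI : Algebra A D₁ := a₁.hom.toAlgebra
  letI : Algebra A D₂ := a₂.hom.toAlgebra
  haveI : Module.Flat A B := hf
  let u' : D₁ →ₐ[A] D₂ := { u.hom with commutes' := fun r => ConcreteCategory.congr_hom hu r }
  let v' : D₁ →ₐ[A] D₂ := { v.hom with commutes' := fun r => ConcreteCategory.congr_hom hv r }
  have T₁ := CommRingCat.isPushout_tensorProduct A B D₁
  have T₂ := CommRingCat.isPushout_tensorProduct A B D₂
  let e₁ := T₁.isoIsPushout _ _ H₁.flip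
  let e₂ := T₂.isoIsPushout _ _ H₂.flip
  have hl₁ : ∀ b, e₁.hom (b ⊗ₜ[A] (1 : D₁)) = r₁ b := fun b =>
    ConcreteCategory.congr_hom (T₁.inl_isoIsPushout_hom _ _ H₁.flip) b
  have hr₁ : ∀ d, e₁.hom ((1 : B) ⊗ₜ[A] d) = l₁ d := fun d =>
    ConcreteCategory.congr_hom (T₁.inr_isoIsPushout_hom _ _ H₁.flip) d
  have hl₂ : ∀ b, e₂.hom (b ⊗ₜ[A] (1 : D₂)) = r₂ b := fun b =>
    ConcreteCategory.congr_hom (T₂.inl_isoIsPushout_hom _ _ H₂.flip) b
  have hr₂ : ∀ d, e₂.hom ((1 : B) ⊗ₜ[A] d) = l₂ d := fun d =>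
    ConcreteCategory.congr_hom (T₂.inr_isoIsPushout_hom _ _ H₂.flip) d
  have tm : ∀ (b : B) (d : D₁), (b ⊗ₜ[A] (1 : D₁)) * ((1 : B) ⊗ₜ[A] d) = b ⊗ₜ[A] d := fun b d => by
    rw [Algebra.TensorProduct.tmul_mul_tmul, mul_one, one_mul]
  have key : ∀ (w : D₁ →ₐ[A] D₂) (W : E₁ ⟶ E₂), (∀ d, W (l₁ d) = l₂ (w d)) → (∀ b, W (r₁ b) = r₂ b) →
      ∀ z : B ⊗[A] D₁, W (e₁.hom z) = e₂.hom (AlgebraTensorModule.lTensor A B w.toLinearMap z) := by
    intro w W hl hr z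
    induction z using TensorProduct.induction_on with
    | zero => simp only [map_zero]
    | add a b ha hb => simp only [map_add, ha, hb]
    | tmul b d =>
      rw [← tm b d, map_mul, hl₁, hr₁, map_mul, hl, hr, ← hl₂, ← hr₂, ← map_mul]
      congr 1
      rw [tm]
      simp
  obtain ⟨z, rfl⟩ : ∃ z, e₁.hom z = x := ⟨e₁.inv x, by rw [← ConcreteCategory.comp_apply, e₁.inv_hom_id]; rfl⟩
  have hz : z ∈ LinearMap.eqLocus (AlgebraTensorModule.lTensor A B u'.toLinearMap)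
      (AlgebraTensorModule.lTensor A B v'.toLinearMap) := by
    apply Function.LeftInverse.injective (g := e₂.inv) (fun t => by rw [← ConcreteCategory.comp_apply, e₂.hom_inv_id]; rfl)
    rw [← key u' U (fun d => ConcreteCategory.congr_hom hlU d) (fun b => ConcreteCategory.congr_hom hrU b) z,
      ← key v' V (fun d => ConcreteCategory.congr_hom hlV d) (fun b => ConcreteCategory.congr_hom hrV b) z]
    exact hx
  rw [Module.Flat.eqLocus_lTensor_eq] at hz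
  obtain ⟨y, rfl⟩ := hz
  clear hx
  induction y using TensorProduct.induction_on with
  | zero => simp only [map_zero]; exact zero_mem _
  | add a b ha hb => simp only [map_add]; exact add_mem ha hb
  | tmul b d =>
    rw [AlgebraTensorModule.lTensor_tmul, ← tm, map_mul, hl₁, hr₁]
    exact mul_mem (hB b) (hD _ d.2)

end Groth.Pi1Desc
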