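import Groth.Agent.Pi1Desc.General

/-!
# Effectiveness may be checked on a refinement of the cover
-/

universe u

set_option autoImplicit false
set_option backward.isDefEq.respectTransparency false

open CategoryTheory Limits AlgebraicGeometry TopologicalSpace

namespace Groth.Pi1Desc.Act

variable {V X S V' X' : Scheme.{u}} {h : V ⟶ X} {p : X ⟶ S} {h' : V' ⟶ X'} {w : V' ⟶ V} {f : X' ⟶ X}

/-- If `f ≫ p` is a cover and the datum descends along it then it descends along `p`. -/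
theorem eff_of_refine (A : Act h p) (pb : IsPullback w h' h f) [IsCover (f ≫ p)]
    (hE : (A.pullbackAct (p' := f ≫ p) (s := 𝟙 S) pb (Category.comp_id _)).Eff) : A.Eff := by
  obtain ⟨U, π, q', hpb, hcompat⟩ := hE
  set B := A.pullbackAct (p' := f ≫ p) (s := 𝟙 S) pb (Category.comp_id _)
  -- the value of the future quotient map on a point with a chosen point of the refinement
  have cond : ∀ {T : Scheme.{u}} (v : T ⟶ V) (x' : T ⟶ X'), v ≫ h ≫ p = x' ≫ f ≫ p →
      v ≫ h ≫ p = (x' ≫ f) ≫ p := fun v x' e => e.trans (Category.assoc _ _ _).symm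
  let val : ∀ {T : Scheme.{u}} (v : T ⟶ V) (x' : T ⟶ X'), v ≫ h ≫ p = x' ≫ f ≫ p → (T ⟶ V') :=
    fun v x' e => pb.lift (A.act v (x' ≫ f) (cond v x' e)) x' (A.act_hom _ _ _)
  have val_w : ∀ {T : Scheme.{u}} (v : T ⟶ V) (x' : T ⟶ X') (e), val v x' e ≫ w = A.act v (x' ≫ f) (cond v x' e) :=
    fun v x' e => pb.lift_fst _ _ _
  have val_h : ∀ {T : Scheme.{u}} (v : T ⟶ V) (x' : T ⟶ X') (e), val v x' e ≫ h' = x' :=
    fun v x' e => pb.lift_snd _ _ _
  have val_self : ∀ {T : Scheme.{u}} (v' : T ⟶ V') (e), val (v' ≫ w) (v' ≫ h') e = v' := by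
    intro T v' e
    apply pb.hom_ext
    · exact (val_w _ _ e).trans (A.act_self _ _ _ (by simp only [Category.assoc, pb.w]))
    · exact val_h _ _ e
  -- independence of the chosen point
  have val_eq : ∀ {T : Scheme.{u}} (v : T ⟶ V) (x' y' : T ⟶ X') (e e'),
      val v x' e ≫ q' = val v y' e' ≫ q' := by
    intro T v x' y' e e'
    have he : val v x' e ≫ h' ≫ f ≫ p = y' ≫ f ≫ p := by
      rw [reassoc_of% (val_h v x' e), ← e, e']
    have hB : B.act (val v x' e) y' he = val v y' e' := by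
      apply pb.hom_ext
      · rw [pullbackAct_w, val_w v y' e']
        refine (A.congr (val_w v x' e) rfl _ ?_).trans (A.act_act _ _ _ _ (cond v y' e') _)
        rw [A.act_hom_assoc, ← cond v x' e, cond v y' e']
      · exact (pb.lift_snd _ _ _).trans (val_h v y' e').symm
    rw [← hcompat _ _ _ he, hB]
  -- the quotient map
  let ρ := pullback.fst (h ≫ p) (f ≫ p)
  haveI : IsCover ρ := IsCover.of_isPullback (IsPullback.of_hasPullback (h ≫ p) (f ≫ p)).flip
  haveI := IsCover.effectiveEpi ρ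
  let a := val ρ (pullback.snd (h ≫ p) (f ≫ p)) pullback.condition
  have hval : ∀ {T : Scheme.{u}} (r : T ⟶ pullback (h ≫ p) (f ≫ p)) (e),
      r ≫ a = val (r ≫ ρ) (r ≫ pullback.snd _ _) e := by
    intro T r e
    apply pb.hom_ext
    · rw [Category.assoc, val_w _ _ e, val_w _ _ pullback.condition, A.comp_act]
      exact A.congr rfl (Category.assoc _ _ _).symm _ _
    · rw [Category.assoc, val_h _ _ e, val_h _ _ pullback.condition]
  let q := EffectiveEpi.desc ρ (a ≫ q') fun {T} r₁ r₂ hr => by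
    have e₁ : (r₁ ≫ ρ) ≫ h ≫ p = (r₁ ≫ pullback.snd (h ≫ p) (f ≫ p)) ≫ f ≫ p := by
      simp only [ρ, Category.assoc, pullback.condition]
    have e₂ : (r₁ ≫ ρ) ≫ h ≫ p = (r₂ ≫ pullback.snd (h ≫ p) (f ≫ p)) ≫ f ≫ p := by
      rw [hr]; simp only [ρ, Category.assoc, pullback.condition]
    have e₃ : (r₂ ≫ ρ) ≫ h ≫ p = (r₂ ≫ pullback.snd (h ≫ p) (f ≫ p)) ≫ f ≫ p := hr ▸ e₂
    rw [← Category.assoc, ← Category.assoc, hval r₁ e₁, hval r₂ e₃]
    refine (val_eq _ _ _ e₁ e₂).trans ?_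
    congr 1
    apply pb.hom_ext
    · exact (val_w _ _ e₂).trans ((A.congr hr rfl _ _).trans (val_w _ _ e₃).symm)
    · exact (val_h _ _ e₂).trans (val_h _ _ e₃).symm
  have hρq : ρ ≫ q = a ≫ q' := EffectiveEpi.fac _ _ _
  have keyq : ∀ {T : Scheme.{u}} (v : T ⟶ V) (x' : T ⟶ X') (e), v ≫ q = val v x' e ≫ q' := by
    intro T v x' e
    let r := pullback.lift v x' e
    have h1 : r ≫ ρ = v := pullback.lift_fst _ _ _
    have h2 : r ≫ pullback.snd (h ≫ p) (f ≫ p) = x' := pullback.lift_snd _ _ _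
    conv_lhs => rw [← h1, Category.assoc, hρq, ← Category.assoc, hval r (by rw [h1, h2]; exact e)]
    congr 1
    apply pb.hom_ext
    · exact (val_w _ _ (by rw [h1, h2]; exact e)).trans ((A.congr h1 (congrArg (· ≫ f) h2) _ _).trans (val_w _ _ e).symm)
    · exact ((val_h _ _ (by rw [h1, h2]; exact e)).trans h2).trans (val_h _ _ e).symm
  have hqπ : q ≫ π = h ≫ p := by
    rw [← cancel_epi ρ, reassoc_of% hρq, hpb.w, reassoc_of% (val_h ρ _ pullback.condition)]
    exact pullback.condition.symm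
  have hinv : ∀ (T : Scheme.{u}) (v : T ⟶ V) (x : T ⟶ X) (e : v ≫ h ≫ p = x ≫ p),
      A.act v x e ≫ q = v ≫ q := by
    intro T v x e
    let σ := pullback.fst (v ≫ h ≫ p) (f ≫ p)
    haveI : IsCover σ := IsCover.of_isPullback (IsPullback.of_hasPullback (v ≫ h ≫ p) (f ≫ p)).flip
    haveI := IsCover.effectiveEpi σ
    let x' := pullback.snd (v ≫ h ≫ p) (f ≫ p)
    have e₁ : (σ ≫ v) ≫ h ≫ p = x' ≫ f ≫ p := by simp only [σ, x', Category.assoc, pullback.condition]
    have e₂ : (σ ≫ A.act v x e) ≫ h ≫ p = x' ≫ f ≫ p := by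
      rw [Category.assoc, A.act_hom_assoc]
      exact ((congrArg (σ ≫ ·) e).symm.trans (Category.assoc _ _ _).symm).trans e₁
    rw [← cancel_epi σ, ← Category.assoc σ (A.act v x e) q, ← Category.assoc σ v q, keyq _ x' e₂, keyq _ x' e₁]
    congr 1
    apply pb.hom_ext
    · rw [val_w _ _ e₂, val_w _ _ e₁]
      refine (A.congr (A.comp_act σ v x e) rfl _ ?_).trans (A.act_act _ _ _ _ (cond _ _ e₁) _)
      rw [A.act_hom_assoc, ← cond _ _ e₁, Category.assoc, Category.assoc]
      exact (congrArg (σ ≫ ·) e).symm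
    · exact (val_h _ _ e₂).trans (val_h _ _ e₁).symm
  refine ⟨U, π, q, ?_, hinv⟩
  -- the square is cartesian
  let c : V ⟶ pullback π p := pullback.lift q h hqπ
  suffices IsIso c from IsPullback.of_iso_pullback ⟨hqπ⟩ (asIso c) (pullback.lift_fst _ _ _) (pullback.lift_snd _ _ _)
  haveI : Mono c := by
    refine ⟨fun {T} v₁ v₂ hv => ?_⟩
    have hq : v₁ ≫ q = v₂ ≫ q := by
      have := congrArg (· ≫ pullback.fst π p) hv
      simpa [c] using this
    have hh : v₁ ≫ h = v₂ ≫ h := by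
      have := congrArg (· ≫ pullback.snd π p) hv
      simpa [c] using this
    let σ := pullback.fst (v₁ ≫ h ≫ p) (f ≫ p)
    haveI : IsCover σ := IsCover.of_isPullback (IsPullback.of_hasPullback (v₁ ≫ h ≫ p) (f ≫ p)).flip
    haveI := IsCover.effectiveEpi σ
    let x' := pullback.snd (v₁ ≫ h ≫ p) (f ≫ p)
    have e₁ : (σ ≫ v₁) ≫ h ≫ p = x' ≫ f ≫ p := by simp only [σ, x', Category.assoc, pullback.condition]
    have e₂ : (σ ≫ v₂) ≫ h ≫ p = x' ≫ f ≫ p := by rw [← e₁]; simp only [Category.assoc, reassoc_of% hh]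
    rw [← cancel_epi σ]
    have hval' : val _ x' e₁ = val _ x' e₂ := by
      apply hpb.hom_ext
      · rw [← keyq _ x' e₁, ← keyq _ x' e₂, Category.assoc, Category.assoc, hq]
      · exact (val_h _ _ e₁).trans (val_h _ _ e₂).symm
    have hact := congrArg (· ≫ w) hval'
    simp only [val_w] at hact
    have back : ∀ (v : T ⟶ V) (e : (σ ≫ v) ≫ h ≫ p = x' ≫ f ≫ p) (e' : A.act (σ ≫ v) (x' ≫ f) (cond _ _ e) ≫ h ≫ p = ((σ ≫ v) ≫ h) ≫ p),
        A.act (A.act (σ ≫ v) (x' ≫ f) (cond _ _ e)) ((σ ≫ v) ≫ h) e' = σ ≫ v := fun v e e' => by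
      rw [A.act_act _ _ _ _ (Category.assoc _ _ _).symm, A.act_self _ _ _ rfl]
    rw [← back v₁ e₁ (by rw [A.act_hom_assoc, ← cond _ _ e₁, Category.assoc _ h p]),
      ← back v₂ e₂ (by rw [A.act_hom_assoc, ← cond _ _ e₂, Category.assoc _ h p])]
    exact A.congr hact (by simp only [Category.assoc, hh]) _ _
  let τ := pullback.fst (pullback.fst π p ≫ π) (f ≫ p)
  haveI : IsCover τ := IsCover.of_isPullback (IsPullback.of_hasPullback (pullback.fst π p ≫ π) (f ≫ p)).flip
  haveI := IsCover.effectiveEpi τ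
  let b' := hpb.lift (τ ≫ pullback.fst π p) (pullback.snd (pullback.fst π p ≫ π) (f ≫ p))
    (by rw [Category.assoc]; exact pullback.condition)
  have hb₁ : b' ≫ q' = τ ≫ pullback.fst π p := hpb.lift_fst _ _ _
  have hb₂ : b' ≫ h' = pullback.snd (pullback.fst π p ≫ π) (f ≫ p) := hpb.lift_snd _ _ _
  have eb : (b' ≫ w) ≫ h ≫ p = (τ ≫ pullback.snd π p) ≫ p := by
    rw [Category.assoc, reassoc_of% pb.w, ← Category.assoc, hb₂, ← pullback.condition, Category.assoc,
      ← pullback.condition]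
  let b := A.act (b' ≫ w) (τ ≫ pullback.snd π p) eb
  let r := EffectiveEpi.desc τ b fun {T} t₁ t₂ ht => by
    have e₁ : (t₁ ≫ b') ≫ h' ≫ f ≫ p = ((t₂ ≫ b') ≫ h') ≫ f ≫ p := by
      simp only [← hpb.w, Category.assoc]
      rw [reassoc_of% hb₁, reassoc_of% ht]
    have hB : B.act (t₁ ≫ b') ((t₂ ≫ b') ≫ h') e₁ = t₂ ≫ b' := by
      apply hpb.hom_ext
      · rw [hcompat, Category.assoc, Category.assoc, hb₁, reassoc_of% ht]
      · exact pb.lift_snd _ _ _
    have hw := congrArg (· ≫ w) hB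
    simp only [B, pullbackAct_w] at hw
    simp only [b, A.comp_act]
    refine Eq.trans (A.congr (Category.assoc _ _ _).symm (by rw [reassoc_of% ht]) _ ?_)
      ((A.act_act _ _ _ _ ?_ ?_).symm.trans (A.congr (hw.trans (Category.assoc _ _ _)) rfl _ _))
    · simp only [Category.assoc] at eb ⊢
      rw [eb, reassoc_of% ht]
    · simp only [Category.assoc] at eb ⊢
      rw [eb, reassoc_of% ht]
    · rw [A.act_hom_assoc]
      simp only [Category.assoc] at eb ⊢
      rw [← eb]
      simp only [← reassoc_of% pb.w]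
  have hτr : τ ≫ r = b := EffectiveEpi.fac _ _ _
  have hrc : r ≫ c = 𝟙 _ := by
    rw [← cancel_epi τ, reassoc_of% hτr, Category.comp_id]
    apply pullback.hom_ext
    · rw [Category.assoc, pullback.lift_fst, hinv, keyq (b' ≫ w) (b' ≫ h') (by simp only [Category.assoc, reassoc_of% pb.w]),
        val_self b' (by simp only [Category.assoc, reassoc_of% pb.w]), hb₁]
    · rw [Category.assoc, pullback.lift_snd]
      exact A.act_hom _ _ _
  exact ⟨r, by rw [← cancel_mono c, Category.assoc, hrc, Category.comp_id, Category.id_comp], hrc⟩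

end Groth.Pi1Desc.Act
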