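import Groth.Agent.Pi1Desc.Family
import Groth.Agent.Pi1Desc.Refine
import Groth.Agent.Pi1Desc.ToDD
import Mathlib.CategoryTheory.Extensive

/-!
# Reduction of effectiveness for fpqc families to affine covers
-/

universe u

set_option autoImplicit false
set_option backward.isDefEq.respectTransparency false

open CategoryTheory Limits AlgebraicGeometry TopologicalSpace

namespace Groth.Pi1Desc

variable {ι : Type u} {S : Scheme.{u}} {U : ι → Scheme.{u}} (u : ∀ i, U i ⟶ S)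

theorem isCover_sigmaDesc (hu : Presieve.ofArrows U u ∈ Scheme.fpqcPrecoverage S) : IsCover (Sigma.desc u) := by
  let E : PreZeroHypercover.{u} S := ⟨ι, U, u⟩
  haveI : QuasiCompactCover E := Scheme.presieve₀_mem_qcPrecoverage_iff.1 hu.1
  have hflat : ∀ i, Flat (u i) := fun i => ((Scheme.ofArrows_mem_precoverage_iff _).1 hu.2).2 i
  have hsurj : ∀ s, ∃ i, s ∈ Set.range (u i) := fun s => ((Scheme.ofArrows_mem_precoverage_iff _).1 hu.2).1 s
  refine ⟨?_, ⟨fun s => ?_⟩, ?_⟩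
  · exact IsZariskiLocalAtSource.sigmaDesc hflat
  · obtain ⟨i, x, rfl⟩ := hsurj s
    exact ⟨Sigma.ι U i x, by rw [← Scheme.Hom.comp_apply, Sigma.ι_desc]⟩
  · rw [← PreZeroHypercover.presieve₀_singleton.{u}, Scheme.presieve₀_mem_qcPrecoverage_iff]
    let hom : E.Hom (PreZeroHypercover.singleton.{u} (Sigma.desc u)) :=
      { s₀ := fun _ => PUnit.unit
        h₀ := fun i => Sigma.ι U i
        w₀ := fun i => Sigma.ι_desc _ _ }
    exact QuasiCompactCover.of_hom hom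

theorem exists_affine_refinement {X : Scheme.{u}} {p : X ⟶ S} [IsCover p] {O : S.Opens} (hO : IsAffineOpen O)
    {κ : X → Type*} (Good : ∀ x : X, κ x → X.Opens) (hG : ∀ x, ∃ k, x ∈ Good x k) :
    ∃ (n : ℕ) (c : Fin n → X) (k : ∀ l, κ (c l)) (W : Fin n → X.Opens),
      (∀ l, IsAffineOpen (W l)) ∧ (∀ l, W l ≤ Good (c l) (k l)) ∧ (∀ l, W l ≤ p ⁻¹ᵁ O) ∧
      (∀ y ∈ O, ∃ l, ∃ x ∈ W l, p x = y) := by
  obtain ⟨K, hK, hKO⟩ := IsCover.exists_isCompact_image_eq p hO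
  have hle : K ≤ p ⁻¹ᵁ O := fun x hx => (hKO ▸ ⟨x, hx, rfl⟩ : p x ∈ (O : Set S))
  choose k hk using hG
  have hex : ∀ x : K, ∃ W : X.Opens, IsAffineOpen W ∧ x.1 ∈ W ∧ W ≤ Good x.1 (k x.1) ⊓ p ⁻¹ᵁ O := fun x => by
    obtain ⟨_, ⟨W, hW, rfl⟩, hxW, hWle⟩ := X.isBasis_affineOpens.exists_subset_of_mem_open
      (show x.1 ∈ Good x.1 (k x.1) ⊓ p ⁻¹ᵁ O from ⟨hk x.1, hle x.2⟩) (Good x.1 (k x.1) ⊓ p ⁻¹ᵁ O).isOpen
    exact ⟨W, hW, hxW, hWle⟩
  choose W hWa hxW hWle using hex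
  obtain ⟨t, ht⟩ := hK.elim_finite_subcover (fun x : K => (W x : Set X)) (fun x => (W x).isOpen)
    fun x hx => Set.mem_iUnion.2 ⟨⟨x, hx⟩, hxW ⟨x, hx⟩⟩
  let c : Fin t.card → K := fun l => (t.equivFin.symm l).1
  refine ⟨t.card, fun l => (c l).1, fun l => k _, fun l => W (c l), fun l => hWa _,
    fun l => (hWle _).trans inf_le_left, fun l => (hWle _).trans inf_le_right, fun y hy => ?_⟩
  obtain ⟨x, hx, rfl⟩ := (hKO.symm ▸ hy : y ∈ p '' (K : Set X))
  obtain ⟨z, hz, hxz⟩ := Set.mem_iUnion₂.1 (ht hx)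
  refine ⟨t.equivFin ⟨z, hz⟩, x, ?_, rfl⟩
  simpa [c] using hxz

theorem isPullback_sigmaMap {n : ℕ} {Y P : Fin n → Scheme.{u}} {X W : Scheme.{u}} (H : W ⟶ X)
    (g : ∀ k, Y k ⟶ X) (q : ∀ k, P k ⟶ Y k) (w : ∀ k, P k ⟶ W) (sq : ∀ k, IsPullback (w k) (q k) H (g k)) :
    IsPullback (Sigma.desc w) (Limits.Sigma.map q) H (Sigma.desc g) := by
  let G := Sigma.desc g
  let pr := pullback.snd H G
  have e : ∀ k, (Sigma.ι Y k ≫ G) = g k := fun k => Sigma.ι_desc _ _
  let m : ∀ k, P k ⟶ pullback H G := fun k =>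
    pullback.lift (w k) (q k ≫ Sigma.ι Y k) (by rw [Category.assoc, e, (sq k).w])
  have sqm : ∀ k, IsPullback (m k) (q k) pr (Sigma.ι Y k) := fun k => by
    refine IsPullback.of_right ?_ (pullback.lift_snd _ _ _) (IsPullback.of_hasPullback H G)
    rw [pullback.lift_fst, e]
    exact sq k
  haveI : IsIso (Sigma.desc (Sigma.ι Y)) := by
    have : Sigma.desc (Sigma.ι Y) = 𝟙 _ := by ext k; simp
    rw [this]; infer_instance
  have h1 := FinitaryPreExtensive.isIso_sigmaDesc_fst (Sigma.ι Y) pr ‹_›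
  haveI := h1
  have hdesc : Sigma.desc m = (Sigma.mapIso fun k => (sqm k).isoPullback).hom ≫
      Sigma.desc (fun k => pullback.fst pr (Sigma.ι Y k)) := by
    refine Limits.Sigma.hom_ext _ _ fun k => ?_
    simp [(sqm k).isoPullback_hom_fst]
  haveI : IsIso (Sigma.desc m) := hdesc ▸ inferInstance
  have hw : Sigma.desc w ≫ H = Limits.Sigma.map q ≫ Sigma.desc g := by ext k; simp [(sq k).w]
  refine IsPullback.of_iso_pullback ⟨hw⟩ (asIso (Sigma.desc m)) ?_ ?_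
  · refine Limits.Sigma.hom_ext _ _ fun k => ?_; simp only [asIso_hom, Sigma.ι_desc_assoc, m, G, pullback.lift_fst, Sigma.ι_desc]
  · refine Limits.Sigma.hom_ext _ _ fun k => ?_; simp only [asIso_hom, Sigma.ι_desc_assoc, m, G, pullback.lift_snd, Sigma.ι_map]

variable {u}

/-- Reduction of effectiveness for fpqc families to affine covers. -/
theorem eff_famHom (P : MorphismProperty Scheme.{u}) [P.IsStableUnderBaseChange]
    (h2 : ∀ (m : ℕ) (Y V : Fin m → Scheme.{u}) (q : ∀ j, Y j ⟶ V j), (∀ j, P (q j)) → P (Limits.Sigma.map q))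
    (h3 : ∀ {V X S : Scheme.{u}} (h : V ⟶ X) (p : X ⟶ S), IsAffine X → IsAffine S → Flat p → Surjective p →
      P h → ∀ A : Act h p, A.Eff)
    (hu : Presieve.ofArrows U u ∈ Scheme.fpqcPrecoverage S) (D : Desc.SchDDFam u) (hD : ∀ i, P (D.obj i).hom) :
    (ofDDFam D).Eff := by
  haveI := isCover_sigmaDesc u hu
  refine Act.eff_of_cover fun z => ?_
  obtain ⟨_, ⟨O, hO, rfl⟩, hzO, -⟩ :=
    S.isBasis_affineOpens.exists_subset_of_mem_open (Set.mem_univ ((famHom D ≫ Sigma.desc u) z)) isOpen_univ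
  change S.Opens at O
  refine ⟨_, hzO, (ofDDFam D).stable_preimage O, (ofDDFam D).effOn_preimage ?_⟩
  haveI : IsAffine (Scheme.Opens.toScheme O) := hO
  obtain ⟨n, c, α, W, hWa, hWα, hWO, hcov⟩ := exists_affine_refinement (p := Sigma.desc u) hO
    (fun _ (i : ι) => (Sigma.ι U i).opensRange) (fun x => opensRange_sigmaι_cover U x)
  haveI : ∀ l, IsAffine (W l).toScheme := hWa
  let Y : Fin n → Scheme.{u} := fun l => (W l).toScheme
  let a : ∀ l, Y l ⟶ ((Sigma.desc u) ⁻¹ᵁ O).toScheme := fun l => (∐ U : Scheme.{u}).homOfLE (hWO l)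
  let b : ∀ l, Y l ⟶ U (α l) := fun l => IsOpenImmersion.lift (Sigma.ι U (α l)) (W l).ι
    (by rw [Scheme.Opens.range_ι]; exact hWα l)
  have hb : ∀ l, b l ≫ Sigma.ι U (α l) = a l ≫ ((Sigma.desc u) ⁻¹ᵁ O).ι := fun l => by
    rw [IsOpenImmersion.lift_fac, Scheme.homOfLE_ι]
  let f := Sigma.desc a
  haveI : IsOpenImmersion ((Sigma.desc u) ⁻¹ᵁ O).ι := inferInstance
  haveI : ∀ l, Flat (a l) := fun l => inferInstance
  haveI : Flat f := IsZariskiLocalAtSource.sigmaDesc fun l => inferInstance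
  haveI : Flat (Sigma.desc u) := IsCover.flat
  haveI : Flat ((Sigma.desc u) ∣_ O) := IsZariskiLocalAtTarget.restrict ‹_› O
  haveI : Surjective (f ≫ (Sigma.desc u) ∣_ O) := ⟨fun y => by
    obtain ⟨l, x, hx, hxy⟩ := hcov (O.ι y) y.2
    refine ⟨Sigma.ι Y l ⟨x, hx⟩, O.ι.isOpenEmbedding.injective ?_⟩
    rw [← Scheme.Hom.comp_apply, ← Scheme.Hom.comp_apply]
    simp only [f, Category.assoc, morphismRestrict_ι, Sigma.ι_desc_assoc, a, Scheme.homOfLE_ι_assoc]
    exact hxy⟩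
  haveI : IsAffine (∐ Y : Scheme.{u}) := inferInstance
  haveI : QuasiCompact (f ≫ (Sigma.desc u) ∣_ O) := (quasiCompact_iff_compactSpace _).2 inferInstance
  refine Act.eff_of_refine _ (IsPullback.of_hasPullback _ f) ?_
  refine h3 _ _ inferInstance inferInstance inferInstance inferInstance ?_ _
  -- the pulled back morphism is a finite disjoint union of base changes
  have big : IsPullback (pullback.fst _ f ≫ ((famHom D) ⁻¹ᵁ ((Sigma.desc u) ⁻¹ᵁ O)).ι)
      (pullback.snd (famHom D ∣_ ((Sigma.desc u) ⁻¹ᵁ O)) f) (famHom D) (f ≫ ((Sigma.desc u) ⁻¹ᵁ O).ι) :=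
    (IsPullback.of_hasPullback _ f).paste_horiz (isPullback_morphismRestrict (famHom D) ((Sigma.desc u) ⁻¹ᵁ O)).flip
  have hf : f ≫ ((Sigma.desc u) ⁻¹ᵁ O).ι = Sigma.desc (fun l => b l ≫ Sigma.ι U (α l)) := by
    ext l; simp [f, hb]
  let q : ∀ l, pullback (D.obj (α l)).hom (b l) ⟶ Y l := fun l => pullback.snd _ _
  have small := isPullback_sigmaMap (famHom D) (fun l => b l ≫ Sigma.ι U (α l)) q
    (fun l => pullback.fst _ _ ≫ Sigma.ι (famV D) (α l))
    (fun l => (IsPullback.of_hasPullback _ _).paste_horiz (isPullback_sigma_map (fun i => (D.obj i).hom) (α l)))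
  rw [← hf] at small
  have hP : P (Limits.Sigma.map q) := h2 n _ _ q fun l => MorphismProperty.pullback_snd _ _ (hD _)
  have e := big.isoIsPullback_hom_snd (h' := small)
  rw [← e]
  exact (MorphismProperty.cancel_left_of_respectsIso P _ _).2 hP

end Groth.Pi1Desc
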