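import Groth.Agent.Pi1Desc.FiniteFlat
import Groth.Agent.Pi1Desc.Separated
import Groth.Agent.Pi1Desc.Refine
import Mathlib.AlgebraicGeometry.Morphisms.UniversallyOpen

/-!
# Descent of separated locally quasi-finite schemes along fppf covers
-/

universe u

set_option autoImplicit false
set_option backward.isDefEq.respectTransparency false

open CategoryTheory Limits AlgebraicGeometry TopologicalSpace

namespace Groth.Pi1Desc.Act

variable {V X S : Scheme.{u}} {h : V ⟶ X} {p : X ⟶ S} (A : Act h p)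

/-- The involution of the relation. -/
noncomputable def inv : pullback (h ≫ p) p ⟶ pullback (h ≫ p) p :=
  pullback.lift A.σ (A.d₁ ≫ h) (by
    rw [A.act_hom_assoc, Category.assoc]; exact pullback.condition.symm)

theorem inv_d₁ : A.inv ≫ A.d₁ = A.σ := pullback.lift_fst _ _ _

theorem inv_σ : A.inv ≫ A.σ = A.d₁ := by
  rw [inv, ← A.act_eq_lift_σ, A.act_act _ _ _ _ (Category.assoc _ _ _).symm, A.act_self _ _ _ rfl]

theorem inv_inv : A.inv ≫ A.inv = 𝟙 _ := by
  apply pullback.hom_ext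
  · rw [Category.assoc, inv_d₁, inv_σ, Category.id_comp]
  · rw [Category.assoc, Category.id_comp]
    conv_lhs => arg 2; rw [inv, pullback.lift_snd]
    rw [← Category.assoc, inv_d₁]
    exact A.act_hom _ _ _

variable [Flat p] [LocallyOfFinitePresentation p]

theorem isOpenMap_σ : IsOpenMap A.σ := by
  haveI : IsIso A.inv := ⟨A.inv, A.inv_inv, A.inv_inv⟩
  haveI : Flat A.d₁ := MorphismProperty.pullback_fst _ _ ‹Flat p›
  haveI : LocallyOfFinitePresentation A.d₁ := MorphismProperty.pullback_fst _ _ ‹LocallyOfFinitePresentation p›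
  rw [← A.inv_d₁]
  exact (A.inv ≫ A.d₁).isOpenMap

/-- The smallest stable open containing `U`. -/
def saturation (U : V.Opens) : V.Opens :=
  ⟨A.σ '' (A.d₁ ⁻¹' (U : Set V)), A.isOpenMap_σ _ (U.isOpen.preimage A.d₁.continuous)⟩

theorem le_saturation (U : V.Opens) : U ≤ A.saturation U := fun v hv => by
  obtain ⟨r, h1, h2⟩ := A.exists_σ_eq v
  exact ⟨r, show A.d₁ r ∈ U from h1 ▸ hv, h2⟩

theorem stable_saturation (U : V.Opens) : A.Stable (A.saturation U) := by
  intro T v x e hv t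
  obtain ⟨r, hr : A.d₁ r ∈ U, hrv⟩ := hv t
  obtain ⟨z, hz₁, hz₂⟩ := Scheme.Pullback.exists_preimage_pullback (f := v) (g := A.σ) t r hrv.symm
  let g := pullback.fst v A.σ
  let s := pullback.snd v A.σ
  have hc : g ≫ v = s ≫ A.σ := pullback.condition
  have e₁ : (s ≫ A.d₁) ≫ h ≫ p = (g ≫ x) ≫ p := by
    rw [Category.assoc g, ← e, reassoc_of% hc, A.act_hom_assoc, Category.assoc]
    exact congrArg (s ≫ ·) pullback.condition
  have key : pullback.lift (s ≫ A.d₁) (g ≫ x) e₁ ≫ A.σ = g ≫ A.act v x e := by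
    have e₂ : (s ≫ A.d₁) ≫ h ≫ p = (s ≫ pullback.snd (h ≫ p) p) ≫ p := by
      simp only [Category.assoc, pullback.condition]
    rw [← A.act_eq_lift_σ, A.comp_act]
    refine (A.act_act _ (s ≫ pullback.snd (h ≫ p) p) _ e₂ e₁ ?_).symm.trans (A.congr ?_ rfl _ _)
    · rw [A.act_hom_assoc, ← e₂]; exact e₁
    · rw [← A.comp_act s _ _ pullback.condition]; exact hc.symm
  refine ⟨pullback.lift (s ≫ A.d₁) (g ≫ x) e₁ z, ?_, ?_⟩
  · change A.d₁ _ ∈ U
    rw [← Scheme.Hom.comp_apply, pullback.lift_fst, Scheme.Hom.comp_apply, hz₂]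
    exact hr
  · rw [← Scheme.Hom.comp_apply, key, Scheme.Hom.comp_apply, hz₁]

theorem isCompact_saturation [QuasiCompact p] {U : V.Opens} (hU : IsCompact (U : Set V)) :
    IsCompact (A.saturation U : Set V) := by
  haveI : QuasiCompact A.d₁ := MorphismProperty.pullback_fst _ _ ‹QuasiCompact p›
  exact (A.d₁.isCompact_preimage hU).image A.σ.continuous

theorem eff_of_lqf_of_isAffine [Surjective p] [IsAffine X] [IsAffine S] [IsSeparated h]
    [LocallyQuasiFinite h] [LocallyOfFiniteType h] : A.Eff := by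
  refine eff_of_cover fun v => ?_
  obtain ⟨_, ⟨U, hU, rfl⟩, hvU, -⟩ :=
    V.isBasis_affineOpens.exists_subset_of_mem_open (Set.mem_univ v) isOpen_univ
  refine ⟨_, A.le_saturation U hvU, A.stable_saturation U, A.effOn_of_restrict (A.stable_saturation U) ?_⟩
  haveI : CompactSpace (A.saturation U).toScheme :=
    isCompact_iff_compactSpace.mp (A.isCompact_saturation hU.isCompact)
  haveI : QuasiCompact ((A.saturation U).ι ≫ h) := (quasiCompact_iff_compactSpace _).2 ‹_›
  exact eff_of_isQuasiAffineHom (Groth.Pi1Desc.isQuasiAffineHom_of_locallyQuasiFinite _) _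

/-- Fppf descent is effective for separated locally quasi-finite schemes. -/
theorem eff_of_lqf [Surjective p] [IsSeparated h] [LocallyQuasiFinite h] [LocallyOfFiniteType h] :
    A.Eff := by
  refine eff_of_cover fun v => ?_
  obtain ⟨_, ⟨O, hO, rfl⟩, hxO, -⟩ :=
    S.isBasis_affineOpens.exists_subset_of_mem_open (Set.mem_univ ((h ≫ p) v)) isOpen_univ
  refine ⟨_, hxO, A.stable_preimage O, A.effOn_preimage ?_⟩
  haveI : IsAffine (Scheme.Opens.toScheme O) := hO
  haveI : Flat (p ∣_ O) := IsZariskiLocalAtTarget.restrict ‹_› O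
  haveI : Surjective (p ∣_ O) := IsZariskiLocalAtTarget.restrict ‹_› O
  haveI : LocallyOfFinitePresentation (p ∣_ O) := IsZariskiLocalAtTarget.restrict ‹_› O
  generalize A.pullbackAct (isPullback_morphismRestrict h (p ⁻¹ᵁ O)).flip (morphismRestrict_ι p O) = B
  -- replace the cover by an affine one
  generalize hh₀ : h ∣_ (p ⁻¹ᵁ O) = h₀ at B ⊢
  generalize hp₀ : p ∣_ O = p₀ at B ⊢
  haveI : IsSeparated h₀ := hh₀ ▸ IsZariskiLocalAtTarget.restrict ‹_› _
  haveI : LocallyQuasiFinite h₀ := hh₀ ▸ IsZariskiLocalAtTarget.restrict ‹_› _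
  haveI : LocallyOfFiniteType h₀ := hh₀ ▸ IsZariskiLocalAtTarget.restrict ‹_› _
  haveI : Flat p₀ := hp₀ ▸ inferInstance
  haveI : Surjective p₀ := hp₀ ▸ inferInstance
  haveI : LocallyOfFinitePresentation p₀ := hp₀ ▸ inferInstance
  obtain ⟨t, ht⟩ := (CompactSpace.isCompact_univ (X := Scheme.Opens.toScheme O)).elim_finite_subcover
    (fun U : (p ⁻¹ᵁ O).toScheme.affineOpens => p₀ '' (U.1 : Set (p ⁻¹ᵁ O).toScheme))
    (fun U => p₀.isOpenMap _ U.1.isOpen) fun y _ => by
      obtain ⟨x, rfl⟩ := p₀.surjective y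
      obtain ⟨_, ⟨W, hW, rfl⟩, hxW, -⟩ :=
        (Scheme.isBasis_affineOpens _).exists_subset_of_mem_open (Set.mem_univ x) isOpen_univ
      exact Set.mem_iUnion.2 ⟨⟨W, hW⟩, ⟨x, hxW, rfl⟩⟩
  let X₀ : (p ⁻¹ᵁ O).toScheme.Opens := ⨆ U : t, U.1.1
  haveI : CompactSpace X₀.toScheme := isCompact_iff_compactSpace.mp (by
    simp only [X₀, Opens.coe_iSup]
    exact isCompact_iUnion fun U => U.1.2.isCompact)
  obtain ⟨X', f, hs, hf, haff⟩ := Scheme.exists_hom_isAffine_of_isZariskiLocalAtSource (P := @IsLocalIso) X₀.toScheme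
  haveI := hs
  haveI := haff
  haveI : Etale f := IsLocalIso.le_of_isZariskiLocalAtSource @Etale _ _ f hf
  haveI : Surjective (X₀.ι ≫ p₀) := ⟨fun y => by
    obtain ⟨U, hU⟩ := Set.mem_iUnion.1 (ht (Set.mem_univ y))
    obtain ⟨hUt, x, hxU, rfl⟩ := Set.mem_iUnion.1 hU
    exact ⟨⟨x, Opens.mem_iSup.2 ⟨⟨U, hUt⟩, hxU⟩⟩, rfl⟩⟩
  haveI : Surjective ((f ≫ X₀.ι) ≫ p₀) := by rw [Category.assoc]; infer_instance
  refine B.eff_of_refine (IsPullback.of_hasPullback h₀ (f ≫ X₀.ι)) ?_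
  haveI : IsSeparated (pullback.snd h₀ (f ≫ X₀.ι)) := MorphismProperty.pullback_snd _ _ ‹_›
  haveI : LocallyQuasiFinite (pullback.snd h₀ (f ≫ X₀.ι)) := MorphismProperty.pullback_snd _ _ ‹_›
  haveI : LocallyOfFiniteType (pullback.snd h₀ (f ≫ X₀.ι)) := MorphismProperty.pullback_snd _ _ ‹_›
  exact eff_of_lqf_of_isAffine _

end Groth.Pi1Desc.Act
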