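import Groth.Agent.Pi1Desc.QuasiAffine
import Groth.Agent.Pi1Desc.Saturate
import Groth.Agent.Pi1Desc.EqualizerBC
import Groth.Agent.Pi1Desc.Fpqc
import Mathlib.AlgebraicGeometry.Morphisms.SchemeTheoreticallyDominant

/-!
# Effective descent for ind-quasi-affine morphisms

A quasi-compact open `U` has its saturation in a quasi-compact open `U₁`. The functions on `U₁`
invariant under the relation give a quotient chart in which the saturation of `U` has a stable open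
neighbourhood.
-/

universe u

set_option autoImplicit false
set_option backward.isDefEq.respectTransparency false

open CategoryTheory Limits AlgebraicGeometry TopologicalSpace

namespace Groth.Pi1Desc

/-- A point of the closure of the image of a closed set is a specialization of a point of the image. -/
theorem exists_specializes_of_mem_closure_image {Y P : Scheme.{u}} [IsAffine Y] [IsAffine P] (q : Y ⟶ P)
    {F : Set Y} (hF : IsClosed F) {z : P} (hz : z ∈ closure (q '' F)) : ∃ y ∈ F, q y ⤳ z := by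
  obtain ⟨φ, hφ⟩ := Spec.map_surjective (Y.isoSpec.inv ≫ q ≫ P.isoSpec.hom)
  have hq : ∀ y, P.isoSpec.hom (q y) = Spec.map φ (Y.isoSpec.hom y) := fun y => by
    rw [← Scheme.Hom.comp_apply, ← Scheme.Hom.comp_apply, hφ, Iso.hom_inv_id_assoc]
  obtain ⟨I, hI⟩ := (PrimeSpectrum.isClosed_iff_zeroLocus_ideal _).mp (hF.preimage Y.isoSpec.inv.continuous)
  have hz' : P.isoSpec.hom z ∈ PrimeSpectrum.zeroLocus (I.comap φ.hom : Set _) := by
    refine closure_minimal ?_ (PrimeSpectrum.isClosed_zeroLocus _)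
      (image_closure_subset_closure_image P.isoSpec.hom.continuous ⟨z, hz, rfl⟩)
    rintro _ ⟨_, ⟨y, hy, rfl⟩, rfl⟩
    rw [hq]
    have h1 : Y.isoSpec.hom y ∈ PrimeSpectrum.zeroLocus (I : Set _) := hI.subset (by
      rw [Set.mem_preimage, ← Scheme.Hom.comp_apply, Iso.hom_inv_id]
      exact hy)
    exact Ideal.comap_mono h1
  obtain ⟨p, hpI, hp, hle⟩ := (P.isoSpec.hom z).asIdeal.exists_ideal_comap_le_prime I hz'
  let y₀ : PrimeSpectrum _ := ⟨p, hp⟩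
  refine ⟨Y.isoSpec.inv y₀, hI.superset (show y₀ ∈ PrimeSpectrum.zeroLocus (I : Set _) from hpI), ?_⟩
  rw [← P.isoSpec.hom.isOpenEmbedding.isInducing.specializes_iff, hq,
    ← Scheme.Hom.comp_apply Y.isoSpec.inv, Iso.inv_hom_id]
  exact (PrimeSpectrum.le_iff_specializes ⟨p.comap φ.hom, inferInstance⟩ _).mp hle

/-- Morphisms into an affine scheme are determined on a schematically dense quasi-compact map. -/
theorem ext_of_schemeTheoreticallyDominant {T Y Z : Scheme.{u}} [IsAffine Z] (f : T ⟶ Y)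
    [IsSchemeTheoreticallyDominant f] [QuasiCompact f] {a b : Y ⟶ Z} (h : f ≫ a = f ≫ b) : a = b := by
  refine ext_of_isAffine (CommRingCat.hom_ext (RingHom.ext fun s => f.app_injective ⊤ ?_))
  exact congrArg (fun k : T ⟶ Z => k.appTop s) h

namespace Act

variable {V X S : Scheme.{u}} {h : V ⟶ X} {p : X ⟶ S} (A : Act h p)

theorem quasiSeparatedSpace_of_compact_quasiAffine
    (H : ∀ U : V.Opens, IsCompact (U : Set V) → (U : Scheme.{u}).IsQuasiAffine) : QuasiSeparatedSpace V := by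
  refine ⟨fun U U' hU hUc hU' hU'c => ?_⟩
  let W : V.Opens := ⟨U, hU⟩ ⊔ ⟨U', hU'⟩
  have hWc : IsCompact (W : Set V) := hUc.union hU'c
  haveI : (W : Scheme.{u}).IsQuasiAffine := H W hWc
  haveI : QuasiSeparatedSpace (W : Scheme.{u}) := quasiSeparatedSpace_of_quasiSeparated (W : Scheme.{u}).toSpecΓ
  have hW : IsQuasiSeparated (W : Set V) :=
    (isQuasiSeparated_iff_quasiSeparatedSpace _ W.2).mpr ‹QuasiSeparatedSpace (W : Scheme.{u})›
  exact hW U U' (fun x hx => Or.inl hx) hU hUc (fun x hx => Or.inr hx) hU' hU'c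

/-- The key step: stable open neighbourhoods of compact opens descend. -/
theorem exists_stable_effOn [IsAffine X] [IsAffine S] [Flat p] [Surjective p]
    (hh : MoreMor.IsIndQuasiAffineHom h) (U : V.Opens) (hU : IsCompact (U : Set V)) :
    ∃ W : V.Opens, U ≤ W ∧ A.Stable W ∧ A.EffOn W := by
  have hqa : ∀ U : V.Opens, IsCompact (U : Set V) → (U : Scheme.{u}).IsQuasiAffine :=
    fun U hU => Groth.FlatMor2.isIndQuasiAffineHom_def.1 hh ⊤ (isAffineOpen_top _) U (by simp) hU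
  haveI := quasiSeparatedSpace_of_compact_quasiAffine hqa
  haveI : IsIso A.inv := ⟨A.inv, A.inv_inv, A.inv_inv⟩
  haveI : IsAffineHom A.d₁ := MorphismProperty.pullback_fst _ _ (inferInstance : IsAffineHom p)
  haveI : Flat A.d₁ := MorphismProperty.pullback_fst _ _ ‹Flat p›
  haveI : IsAffineHom A.σ := by rw [← A.inv_d₁]; infer_instance
  haveI : Flat A.σ := by rw [← A.inv_d₁]; infer_instance
  haveI : QuasiSeparatedSpace (pullback (h ≫ p) p : Scheme.{u}) := quasiSeparatedSpace_of_quasiSeparated A.d₁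
  obtain ⟨U₁, -, hσU, hU₁⟩ := Groth.FlatMor2.exists_isCompact_open_between
    ((A.d₁.isCompact_preimage hU).image A.σ.continuous) (W := ⊤) (Set.subset_univ _)
  obtain ⟨U₂, -, hσU₁, hU₂⟩ := Groth.FlatMor2.exists_isCompact_open_between
    ((A.d₁.isCompact_preimage hU₁).image A.σ.continuous) (W := ⊤) (Set.subset_univ _)
  have hle : U ≤ U₁ := fun v hv => by
    obtain ⟨r, hr₁, hr₂⟩ := A.exists_σ_eq v
    exact hσU ⟨r, show A.d₁ r ∈ U by rw [hr₁]; exact hv, hr₂⟩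
  have hle₁₂ : U₁ ≤ U₂ := fun v hv => by
    obtain ⟨r, hr₁, hr₂⟩ := A.exists_σ_eq v
    exact hσU₁ ⟨r, show A.d₁ r ∈ U₁ by rw [hr₁]; exact hv, hr₂⟩
  haveI := hqa U₁ hU₁
  haveI := hqa U₂ hU₂
  -- the relation over `U₁`
  let R₁ := A.d₁ ⁻¹ᵁ U₁
  let R₂ := A.σ ⁻¹ᵁ U₁
  let R₁₁ := R₁ ⊓ R₂
  let κ : R₁₁.toScheme ⟶ R₁.toScheme := (pullback (h ≫ p) p).homOfLE inf_le_left
  let a := A.d₁ ∣_ U₁
  let d₂ : R₁.toScheme ⟶ X := R₁.ι ≫ pullback.snd (h ≫ p) p
  let u₁ : R₁₁.toScheme ⟶ U₁.toScheme := κ ≫ a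
  let v₁ : R₁₁.toScheme ⟶ U₁.toScheme := (pullback (h ≫ p) p).homOfLE inf_le_right ≫ (A.σ ∣_ U₁)
  have haι : a ≫ U₁.ι = R₁.ι ≫ A.d₁ := morphismRestrict_ι _ _
  have hκι : κ ≫ R₁.ι = R₁₁.ι := Scheme.homOfLE_ι _ _
  have hu₁ : u₁ ≫ U₁.ι = R₁₁.ι ≫ A.d₁ := by
    simp only [u₁, Category.assoc, haι]; rw [reassoc_of% hκι]
  have hv₁ : v₁ ≫ U₁.ι = R₁₁.ι ≫ A.σ := by
    simp only [v₁, Category.assoc, morphismRestrict_ι]
    rw [Scheme.homOfLE_ι_assoc]
  let str : U₁.toScheme ⟶ S := U₁.ι ≫ h ≫ p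
  have hd : A.d₁ ≫ h ≫ p = pullback.snd (h ≫ p) p ≫ p := pullback.condition
  have hσh : A.σ ≫ h = pullback.snd (h ≫ p) p := A.act_hom _ _ _
  have huv : v₁ ≫ str = u₁ ≫ str := by
    simp only [str]
    rw [reassoc_of% hv₁, reassoc_of% hu₁, reassoc_of% hσh, hd]
  have sq₁ : IsPullback a d₂ str p :=
    (isPullback_morphismRestrict A.d₁ U₁).paste_vert (IsPullback.of_hasPullback (h ≫ p) p)
  -- invariant functions and their base change
  let D := RingHom.eqLocus u₁.appTop.hom v₁.appTop.hom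
  let inc : CommRingCat.of D ⟶ Γ(U₁.toScheme, ⊤) := CommRingCat.ofHom D.subtype
  let g₀ : Γ(S, ⊤) ⟶ CommRingCat.of D := CommRingCat.ofHom (str.appTop.hom.codRestrict D fun s => by
    show u₁.appTop (str.appTop s) = v₁.appTop (str.appTop s)
    exact (congrArg (fun k : R₁₁.toScheme ⟶ S => k.appTop s) huv).symm)
  let P₀ := Spec (CommRingCat.of D)
  let π₀ : P₀ ⟶ S := Spec.map g₀ ≫ S.isoSpec.inv
  let j₀ : U₁.toScheme ⟶ P₀ := U₁.toScheme.toSpecΓ ≫ Spec.map inc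
  have hj₀ : j₀ ≫ π₀ = str := by
    have e : g₀ ≫ inc = str.appTop := rfl
    simp only [j₀, π₀, Category.assoc]
    rw [← Spec.map_comp_assoc, e, ← Scheme.toSpecΓ_naturality_assoc, Scheme.toSpecΓ_isoSpec_inv,
      Category.comp_id]
  have hinv : u₁ ≫ j₀ = v₁ ≫ j₀ := by
    simp only [j₀, Scheme.toSpecΓ_naturality_assoc, ← Spec.map_comp]
    congr 2
    exact CommRingCat.hom_ext (RingHom.ext fun d => d.2)
  let Y := pullback π₀ p
  let q : Y ⟶ P₀ := pullback.fst π₀ p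
  let hY : Y ⟶ X := pullback.snd π₀ p
  haveI : IsAffine Y := inferInstanceAs (IsAffine (pullback π₀ p))
  haveI : Flat q := MorphismProperty.pullback_fst _ _ ‹Flat p›
  let ψ : R₁.toScheme ⟶ Y := pullback.lift (a ≫ j₀) d₂ (by rw [Category.assoc, hj₀]; exact sq₁.w)
  have hψq : ψ ≫ q = a ≫ j₀ := pullback.lift_fst _ _ _
  have hψY : ψ ≫ hY = d₂ := pullback.lift_snd _ _ _
  have sqψ : IsPullback a ψ j₀ q := by
    refine IsPullback.of_bot ?_ hψq.symm (IsPullback.of_hasPullback π₀ p)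
    rw [hψY, hj₀]
    exact sq₁
  haveI : CompactSpace U₁.toScheme := isCompact_iff_compactSpace.mp hU₁
  haveI : CompactSpace U₂.toScheme := isCompact_iff_compactSpace.mp hU₂
  haveI : QuasiCompact j₀ := (quasiCompact_iff_compactSpace _).2 inferInstance
  haveI : IsSchemeTheoreticallyDominant j₀ := by
    rw [isSchemeTheoreticallyDominant_iff]
    refine Scheme.IdealSheafData.ext_of_isAffine ?_
    rw [Scheme.Hom.ker_apply, Scheme.IdealSheafData.ideal_bot, Pi.bot_apply, ← RingHom.injective_iff_ker_eq_bot]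
    have e : j₀.appTop = (Scheme.ΓSpecIso _).hom ≫ inc := by
      simp only [j₀, Scheme.Hom.comp_appTop, Scheme.toSpecΓ_appTop]
      exact Scheme.ΓSpecIso_naturality inc
    change Function.Injective j₀.appTop
    rw [e]
    exact Function.Injective.comp (g := inc) D.subtype_injective
      (Function.LeftInverse.injective (g := (Scheme.ΓSpecIso (CommRingCat.of D)).inv)
        fun t => congrArg (fun k => k t) (Scheme.ΓSpecIso (CommRingCat.of D)).hom_inv_id)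
  haveI : IsSchemeTheoreticallyDominant ψ := IsSchemeTheoreticallyDominant.of_isPullback sqψ
  haveI : QuasiCompact ψ := MorphismProperty.of_isPullback sqψ ‹QuasiCompact j₀›
  -- the comparison with functions on `U₂`
  have hr₂ : Set.range (R₁.ι ≫ A.σ) ⊆ Set.range U₂.ι := by
    rintro _ ⟨t, rfl⟩
    rw [Scheme.Opens.range_ι, Scheme.Hom.comp_apply]
    exact hσU₁ ⟨_, t.2, rfl⟩
  let s₁ : R₁.toScheme ⟶ U₂.toScheme := IsOpenImmersion.lift U₂.ι (R₁.ι ≫ A.σ) hr₂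
  have hs₁ : s₁ ≫ U₂.ι = R₁.ι ≫ A.σ := IsOpenImmersion.lift_fac _ _ _
  let M := pullback (u₁ ≫ str) p
  let μ : M ⟶ R₁₁.toScheme := pullback.fst _ _
  let x : M ⟶ X := pullback.snd _ _
  have hμ : (μ ≫ u₁) ≫ str = x ≫ p := by rw [Category.assoc]; exact pullback.condition
  have hμ' : (μ ≫ v₁) ≫ str = x ≫ p := by rw [Category.assoc, huv]; exact pullback.condition
  let m₁ : M ⟶ R₁.toScheme := sq₁.lift (μ ≫ u₁) x hμ
  let m₂ : M ⟶ R₁.toScheme := sq₁.lift (μ ≫ v₁) x hμ'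
  have hm : m₁ ≫ s₁ = m₂ ≫ s₁ := by
    have e₁ : (m₁ ≫ R₁.ι) ≫ A.d₁ = (μ ≫ R₁₁.ι) ≫ A.d₁ := by
      rw [Category.assoc, ← haι, sq₁.lift_fst_assoc, Category.assoc, hu₁, Category.assoc]
    have e₂ : (m₂ ≫ R₁.ι) ≫ A.d₁ = (μ ≫ R₁₁.ι) ≫ A.σ := by
      rw [Category.assoc, ← haι, sq₁.lift_fst_assoc, Category.assoc, hv₁, Category.assoc]
    have x₁ : (m₁ ≫ R₁.ι) ≫ pullback.snd (h ≫ p) p = x := by rw [Category.assoc]; exact sq₁.lift_snd _ _ _
    have x₂ : (m₂ ≫ R₁.ι) ≫ pullback.snd (h ≫ p) p = x := by rw [Category.assoc]; exact sq₁.lift_snd _ _ _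
    rw [← cancel_mono U₂.ι, Category.assoc, Category.assoc, hs₁, ← Category.assoc, ← Category.assoc,
      A.comp_act, A.comp_act]
    have c₁ : ((μ ≫ R₁₁.ι) ≫ A.d₁) ≫ h ≫ p = ((μ ≫ R₁₁.ι) ≫ pullback.snd (h ≫ p) p) ≫ p := by
      simp only [Category.assoc, hd]
    have c₂ : ((μ ≫ R₁₁.ι) ≫ A.d₁) ≫ h ≫ p = x ≫ p := by
      rw [← e₁, ← x₁]; simp only [Category.assoc, hd]
    have c₃ : A.act ((μ ≫ R₁₁.ι) ≫ A.d₁) ((μ ≫ R₁₁.ι) ≫ pullback.snd (h ≫ p) p) c₁ ≫ h ≫ p = x ≫ p := by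
      rw [A.act_hom_assoc, ← c₁]; exact c₂
    refine (A.congr e₁ x₁ _ c₂).trans ((A.act_act _ _ _ c₁ c₂ c₃).symm.trans (A.congr ?_ x₂.symm _ _))
    rw [e₂, A.comp_act]
  let g₂ : Γ(U₂.toScheme, ⊤) ⟶ Γ(R₁.toScheme, ⊤) := s₁.appTop
  have hrange : ∀ g, g₂ g ∈ ψ.appTop.hom.range := by
    intro g
    haveI : CompactSpace R₁₁.toScheme := by
      refine isCompact_iff_compactSpace.mp ?_
      exact (A.d₁.isCompact_preimage hU₁).inter_of_isOpen (A.σ.isCompact_preimage hU₁) R₁.2 R₂.2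
    haveI : QuasiSeparatedSpace R₁₁.toScheme :=
      (isQuasiSeparated_iff_quasiSeparatedSpace _ R₁₁.2).mp
        (IsQuasiSeparated.of_quasiSeparatedSpace _ |>.of_subset (Set.subset_univ _))
    have eqU : ∀ {T T' : Scheme.{u}} {f f' : T ⟶ T'}, f = f' → f.appTop = f'.appTop := fun e => by rw [e]
    refine mem_range_of_equalized (A := Γ(S, ⊤)) (B := Γ(X, ⊤))
      ((HasRingHomProperty.iff_of_isAffine (P := @Flat) (f := p)).1 inferInstance)
      (u := u₁.appTop) (v := v₁.appTop) (a₁ := str.appTop) (a₂ := (u₁ ≫ str).appTop) ?_ ?_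
      (isPushout_appTop_of_flat sq₁) (isPushout_appTop_of_flat (IsPullback.of_hasPullback (u₁ ≫ str) p))
      (U := m₁.appTop) (V := m₂.appTop) ?_ ?_ ?_ ?_ ψ.appTop (fun b => ?_) (fun d hd => ?_) ?_
    · exact (Scheme.Hom.comp_appTop _ _).symm
    · exact (Scheme.Hom.comp_appTop _ _).symm.trans (congrArg (fun k : R₁₁.toScheme ⟶ S => k.appTop) huv)
    · rw [← Scheme.Hom.comp_appTop, ← Scheme.Hom.comp_appTop]; exact eqU (sq₁.lift_fst _ _ _)
    · rw [← Scheme.Hom.comp_appTop]; exact eqU (sq₁.lift_snd _ _ _)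
    · rw [← Scheme.Hom.comp_appTop, ← Scheme.Hom.comp_appTop]; exact eqU (sq₁.lift_fst _ _ _)
    · rw [← Scheme.Hom.comp_appTop]; exact eqU (sq₁.lift_snd _ _ _)
    · refine ⟨hY.appTop b, ?_⟩
      exact congrArg (fun k : R₁.toScheme ⟶ X => k.appTop b) hψY
    · refine ⟨q.appTop ((Scheme.ΓSpecIso (CommRingCat.of D)).inv ⟨d, hd⟩), ?_⟩
      have e : j₀.appTop = (Scheme.ΓSpecIso _).hom ≫ inc := by
        simp only [j₀, Scheme.Hom.comp_appTop, Scheme.toSpecΓ_appTop]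
        exact Scheme.ΓSpecIso_naturality inc
      refine (congrArg (fun k : R₁.toScheme ⟶ P₀ => k.appTop _) hψq).trans ?_
      show a.appTop (j₀.appTop _) = a.appTop d
      congr 1
      rw [e, ← ConcreteCategory.comp_apply, Iso.inv_hom_id_assoc]
      rfl
    · exact congrArg (fun k : M ⟶ U₂.toScheme => k.appTop g) hm
  have hψinj : Function.Injective ψ.appTop.hom := ψ.app_injective ⊤
  let eψ : Γ(Y, ⊤) ≃+* ψ.appTop.hom.range := RingEquiv.ofBijective ψ.appTop.hom.rangeRestrict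
    ⟨fun a b e => hψinj (congrArg Subtype.val e), ψ.appTop.hom.rangeRestrict_surjective⟩
  let ρ : Γ(U₂.toScheme, ⊤) ⟶ Γ(Y, ⊤) :=
    CommRingCat.ofHom (eψ.symm.toRingHom.comp (g₂.hom.codRestrict _ hrange))
  have hρ : ρ ≫ ψ.appTop = g₂ := CommRingCat.hom_ext (RingHom.ext fun g =>
    congrArg Subtype.val (eψ.apply_symm_apply ⟨g₂ g, hrange g⟩))
  let ν : Y ⟶ Spec Γ(U₂.toScheme, ⊤) := Y.toSpecΓ ≫ Spec.map ρ
  have hψν : ψ ≫ ν = s₁ ≫ U₂.toScheme.toSpecΓ := by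
    rw [Scheme.toSpecΓ_naturality_assoc, ← Spec.map_comp, hρ, ← Scheme.toSpecΓ_naturality]
  -- the chart of `U₁` in the base change
  haveI : CompactSpace R₁₁.toScheme := by
    refine isCompact_iff_compactSpace.mp ?_
    exact (A.d₁.isCompact_preimage hU₁).inter_of_isOpen (A.σ.isCompact_preimage hU₁) R₁.2 R₂.2
  haveI : Flat (A.σ ∣_ U₁) := IsZariskiLocalAtTarget.restrict ‹Flat A.σ› U₁
  haveI : Flat v₁ := inferInstanceAs (Flat (_ ≫ _))
  haveI : QuasiCompact v₁ := quasiCompact_of_compactSpace v₁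
  haveI : Surjective v₁ := ⟨fun v => by
    obtain ⟨r, hr₁, hr₂⟩ := A.exists_σ_eq (U₁.ι v)
    refine ⟨⟨r, ⟨show A.d₁ r ∈ U₁ from hr₁ ▸ v.2, show A.σ r ∈ U₁ from hr₂ ▸ v.2⟩⟩, ?_⟩
    apply U₁.ι.isOpenEmbedding.injective
    rw [← Scheme.Hom.comp_apply, hv₁, Scheme.Hom.comp_apply]
    exact hr₂⟩
  haveI : EffectiveEpi v₁ := IsCover.effectiveEpi v₁
  let i : U₁.toScheme ⟶ Y := EffectiveEpi.desc v₁ (κ ≫ ψ) fun {T} α β hαβ => by
    apply pullback.hom_ext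
    · change (α ≫ κ ≫ ψ) ≫ q = (β ≫ κ ≫ ψ) ≫ q
      simp only [Category.assoc, hψq]
      change α ≫ u₁ ≫ j₀ = β ≫ u₁ ≫ j₀
      rw [hinv, reassoc_of% hαβ]
    · change (α ≫ κ ≫ ψ) ≫ hY = (β ≫ κ ≫ ψ) ≫ hY
      simp only [Category.assoc, hψY, d₂]
      rw [reassoc_of% hκι, ← hσh, ← reassoc_of% hv₁, reassoc_of% hαβ]
  have hvi : v₁ ≫ i = κ ≫ ψ := EffectiveEpi.fac _ _ _
  have hiq : i ≫ q = j₀ := by
    rw [← cancel_epi v₁, reassoc_of% hvi, hψq, ← hinv]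
    exact (Category.assoc _ _ _).symm
  have hiY : i ≫ hY = U₁.ι ≫ h := by
    rw [← cancel_epi v₁, reassoc_of% hvi, hψY, reassoc_of% hv₁, hσh]
    simp only [d₂, reassoc_of% hκι]
  have hκs : κ ≫ s₁ = v₁ ≫ V.homOfLE hle₁₂ := by
    rw [← cancel_mono U₂.ι, Category.assoc, Category.assoc, hs₁, Scheme.homOfLE_ι, hv₁, reassoc_of% hκι]
  let j₂ : U₁.toScheme ⟶ Spec Γ(U₂.toScheme, ⊤) := V.homOfLE hle₁₂ ≫ U₂.toScheme.toSpecΓ
  have hiν : i ≫ ν = j₂ := by
    rw [← cancel_epi v₁, reassoc_of% hvi, hψν, reassoc_of% hκs]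
  let YW : Y.Opens := ν ⁻¹ᵁ j₂.opensRange
  let back : YW.toScheme ⟶ U₁.toScheme := IsOpenImmersion.lift j₂ (YW.ι ≫ ν) (by
    rintro _ ⟨t, rfl⟩; exact t.2)
  have hback : back ≫ j₂ = YW.ι ≫ ν := IsOpenImmersion.lift_fac _ _ _
  have hmemκ : ∀ r : R₁.toScheme, ψ r ∈ YW → r ∈ Set.range κ := by
    intro r hr
    obtain ⟨v, hv⟩ := hr
    rw [← Scheme.Hom.comp_apply, hψν, Scheme.Hom.comp_apply] at hv
    have h1 : V.homOfLE hle₁₂ v = s₁ r :=
      U₂.toScheme.toSpecΓ.isOpenEmbedding.injective ((Scheme.Hom.comp_apply _ _ _).symm.trans hv)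
    have h2 : A.σ (R₁.ι r) ∈ U₁ := by
      rw [← Scheme.Hom.comp_apply, ← hs₁, Scheme.Hom.comp_apply, ← h1, ← Scheme.Hom.comp_apply,
        Scheme.homOfLE_ι]
      exact v.2
    refine ⟨⟨R₁.ι r, ⟨r.2, h2⟩⟩, R₁.ι.isOpenEmbedding.injective ?_⟩
    rw [← Scheme.Hom.comp_apply, hκι]
    rfl
  have hbacki : back ≫ i = YW.ι := by
    have sqW := (isPullback_morphismRestrict ψ YW).flip
    haveI : IsSchemeTheoreticallyDominant (ψ ∣_ YW) := IsSchemeTheoreticallyDominant.of_isPullback sqW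
    haveI : QuasiCompact (ψ ∣_ YW) := MorphismProperty.of_isPullback sqW ‹QuasiCompact ψ›
    let l : (ψ ⁻¹ᵁ YW).toScheme ⟶ R₁₁.toScheme := IsOpenImmersion.lift κ (ψ ⁻¹ᵁ YW).ι (by
      rintro _ ⟨t, rfl⟩; exact hmemκ _ t.2)
    have hl : l ≫ κ = (ψ ⁻¹ᵁ YW).ι := IsOpenImmersion.lift_fac _ _ _
    have hlb : (ψ ∣_ YW) ≫ back = l ≫ v₁ := by
      rw [← cancel_mono j₂, Category.assoc, hback, morphismRestrict_ι_assoc, ← hl, Category.assoc,
        Category.assoc, ← hiν, ← reassoc_of% hvi]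
    refine ext_of_schemeTheoreticallyDominant (ψ ∣_ YW) ?_
    rw [reassoc_of% hlb, hvi, reassoc_of% hl, morphismRestrict_ι]
  have hiYW : Set.range i ⊆ Set.range YW.ι := by
    rintro _ ⟨t, rfl⟩
    rw [Scheme.Opens.range_ι]
    refine ⟨t, ?_⟩
    rw [← Scheme.Hom.comp_apply, hiν]
  let i' := IsOpenImmersion.lift YW.ι i hiYW
  have hi' : i' ≫ YW.ι = i := IsOpenImmersion.lift_fac _ _ _
  haveI : IsIso i' := ⟨back, by rw [← cancel_mono j₂, Category.assoc, hback, reassoc_of% hi', hiν, Category.id_comp],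
    by rw [← cancel_mono YW.ι, Category.assoc, hi', hbacki, Category.id_comp]⟩
  haveI : IsOpenImmersion i := hi' ▸ inferInstance
  -- the stable open
  let O : P₀.Opens := ⟨(closure (q '' (Set.range i)ᶜ))ᶜ, isClosed_closure.isOpen_compl⟩
  have hO : ∀ y, q y ∈ O → y ∈ Set.range i := fun y hy => by
    by_contra hn
    exact hy (subset_closure ⟨y, hn, rfl⟩)
  have hUO : ∀ u : U₁.toScheme, U₁.ι u ∈ U → j₀ u ∈ O := by
    intro u hu hc
    obtain ⟨y', hy', hspec⟩ :=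
      exists_specializes_of_mem_closure_image q i.isOpenEmbedding.isOpen_range.isClosed_compl hc
    rw [← hiq, Scheme.Hom.comp_apply] at hspec
    obtain ⟨y'', hy'', hqy⟩ := Flat.generalizingMap q hspec
    obtain ⟨u'', rfl⟩ := hy''.mem_open i.isOpenEmbedding.isOpen_range ⟨u, rfl⟩
    have hu'' : U₁.ι u'' ∈ U :=
      ((i.isOpenEmbedding.isInducing.specializes_iff.1 hy'').map U₁.ι.continuous).mem_open U.2 hu
    obtain ⟨z, hz₁, hz₂⟩ := Scheme.exists_preimage_of_isPullback sqψ u'' y' (by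
      rw [← hiq, Scheme.Hom.comp_apply, hqy])
    have hzd : A.d₁ (R₁.ι z) ∈ U := by
      rw [← Scheme.Hom.comp_apply, ← haι, Scheme.Hom.comp_apply, hz₁]
      exact hu''
    let z' : R₁₁.toScheme := ⟨R₁.ι z, ⟨z.2, hσU ⟨_, hzd, rfl⟩⟩⟩
    have hzκ : κ z' = z := R₁.ι.isOpenEmbedding.injective (by
      rw [← Scheme.Hom.comp_apply, hκι]; rfl)
    refine hy' ⟨v₁ z', ?_⟩
    rw [← Scheme.Hom.comp_apply, hvi, Scheme.Hom.comp_apply, hzκ, hz₂]
  let WU : U₁.toScheme.Opens := j₀ ⁻¹ᵁ O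
  have hst : A.Stable (U₁.ι ''ᵁ WU) := by
    intro T v x e hv t
    obtain ⟨u, hu, hut⟩ := hv t
    let r := pullback.lift v x e
    have hr : A.d₁ (r t) = v t := by
      rw [← Scheme.Hom.comp_apply, pullback.lift_fst]
    let z : R₁.toScheme := ⟨r t, show A.d₁ (r t) ∈ U₁ from hr ▸ hut ▸ u.2⟩
    have hz : a z = u := U₁.ι.isOpenEmbedding.injective (by
      rw [← Scheme.Hom.comp_apply, haι, Scheme.Hom.comp_apply]
      exact hr.trans hut.symm)
    have hψz : q (ψ z) ∈ O := by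
      rw [← Scheme.Hom.comp_apply, hψq, Scheme.Hom.comp_apply, hz]; exact hu
    obtain ⟨u', hu'⟩ := hO _ hψz
    obtain ⟨z', hz'⟩ := hmemκ z (by rw [← hu']; have hh := hiYW ⟨u', rfl⟩; rwa [Scheme.Opens.range_ι] at hh)
    refine ⟨v₁ z', ?_, ?_⟩
    · show j₀ (v₁ z') ∈ O
      rw [← Scheme.Hom.comp_apply, ← hinv, Scheme.Hom.comp_apply]
      change j₀ (a (κ z')) ∈ O
      rw [hz', hz]; exact hu
    · have : U₁.ι (v₁ z') = A.σ (R₁.ι z) := by
        rw [← Scheme.Hom.comp_apply, hv₁, Scheme.Hom.comp_apply, ← hκι, Scheme.Hom.comp_apply, hz']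
      rw [A.act_eq_lift_σ, Scheme.Hom.comp_apply]
      exact this
  refine ⟨U₁.ι ''ᵁ WU, fun v hv => ⟨⟨v, hle hv⟩, hUO _ hv, rfl⟩, hst, ?_⟩
  let e := U₁.ι.isoImage WU
  have he : e.hom ≫ (U₁.ι ''ᵁ WU).ι = WU.ι ≫ U₁.ι := Scheme.Hom.isoImage_hom_ι _ _
  refine ⟨O.toScheme, O.ι ≫ π₀, e.inv ≫ (j₀ ∣_ O), ⟨?_, fun T w w' ew hw => ?_⟩⟩
  · have sqO : IsPullback (j₀ ∣_ O) (WU.ι ≫ i) O.ι q := by
      refine IsOpenImmersion.isPullback _ _ _ _ ?_ ?_
      · rw [Category.assoc, hiq, morphismRestrict_ι]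
      · rw [Scheme.Opens.opensRange_ι]
        refine Opens.ext (Set.ext fun y => ⟨fun hy => ?_, ?_⟩)
        · obtain ⟨u, rfl⟩ := hO y hy
          exact ⟨⟨u, show j₀ u ∈ O by rw [← hiq, Scheme.Hom.comp_apply]; exact hy⟩, rfl⟩
        · rintro ⟨t, rfl⟩
          change q ((WU.ι ≫ i) t) ∈ O
          rw [← Scheme.Hom.comp_apply, Category.assoc, hiq]
          exact t.2
    have := sqO.paste_vert (IsPullback.of_hasPullback π₀ p)
    refine this.of_iso e (Iso.refl _) (Iso.refl _) (Iso.refl _) (by simp) ?_ (by simp) (by simp)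
    rw [Iso.refl_hom, Category.comp_id, Category.assoc, hiY, reassoc_of% he]
  · rw [← cancel_mono O.ι]
    simp only [Category.assoc, morphismRestrict_ι]
    let α := w ≫ e.inv ≫ WU.ι
    let β := w' ≫ e.inv ≫ WU.ι
    have hwι : ∀ k : T ⟶ (U₁.ι ''ᵁ WU).toScheme, k ≫ (U₁.ι ''ᵁ WU).ι = (k ≫ e.inv ≫ WU.ι) ≫ U₁.ι := fun k => by
      simp only [Category.assoc, ← he, Iso.inv_hom_id_assoc]
    let r := pullback.lift (w ≫ (U₁.ι ''ᵁ WU).ι) (w' ≫ (U₁.ι ''ᵁ WU).ι ≫ h) ew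
    have hrd : r ≫ A.d₁ = α ≫ U₁.ι := (pullback.lift_fst _ _ _).trans (hwι w)
    have hrσ : r ≫ A.σ = β ≫ U₁.ι := by
      rw [← A.act_eq_lift_σ, hw]; exact hwι w'
    have hr : Set.range r ⊆ Set.range R₁₁.ι := by
      rintro _ ⟨t, rfl⟩
      rw [Scheme.Opens.range_ι]
      refine ⟨?_, ?_⟩
      · show A.d₁ (r t) ∈ U₁
        rw [← Scheme.Hom.comp_apply, hrd, Scheme.Hom.comp_apply]; exact (α t).2
      · show A.σ (r t) ∈ U₁
        rw [← Scheme.Hom.comp_apply, hrσ, Scheme.Hom.comp_apply]; exact (β t).2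
    let r' := IsOpenImmersion.lift R₁₁.ι r hr
    have hr' : r' ≫ R₁₁.ι = r := IsOpenImmersion.lift_fac _ _ _
    have hα : r' ≫ u₁ = α := by rw [← cancel_mono U₁.ι, Category.assoc, hu₁, reassoc_of% hr', hrd]
    have hβ : r' ≫ v₁ = β := by rw [← cancel_mono U₁.ι, Category.assoc, hv₁, reassoc_of% hr', hrσ]
    show w' ≫ e.inv ≫ WU.ι ≫ j₀ = w ≫ e.inv ≫ WU.ι ≫ j₀
    have : β ≫ j₀ = α ≫ j₀ := by
      rw [← hα, ← hβ, Category.assoc, Category.assoc]; exact congrArg (r' ≫ ·) hinv.symm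
    simpa only [α, β, Category.assoc] using this

/-- Descent is effective for ind-quasi-affine morphisms, affine case. -/
theorem eff_of_isIndQuasiAffineHom_of_isAffine [IsAffine X] [IsAffine S] [Flat p] [Surjective p]
    (hh : MoreMor.IsIndQuasiAffineHom h) : A.Eff := by
  refine eff_of_cover fun v => ?_
  obtain ⟨_, ⟨U, hU, rfl⟩, hvU, -⟩ :=
    V.isBasis_affineOpens.exists_subset_of_mem_open (Set.mem_univ v) isOpen_univ
  obtain ⟨W, hW, hs, he⟩ := A.exists_stable_effOn hh U hU.isCompact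
  exact ⟨W, hW hvU, hs, he⟩

end Act

end Groth.Pi1Desc

namespace Groth.Pi1Desc

open Groth.FlatMor2 in
/-- Being ind-quasi-affine is Zariski local on the target. -/
theorem isIndQuasiAffineHom_of_openCover {X Y : Scheme.{u}} (f : X ⟶ Y) (𝒰 : Y.OpenCover)
    (H : ∀ i, MoreMor.IsIndQuasiAffineHom (pullback.snd f (𝒰.f i))) : MoreMor.IsIndQuasiAffineHom f := by
  rw [isIndQuasiAffineHom_def]
  intro O hO U hUO hU
  haveI : IsAffine (O : Scheme.{u}) := hO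
  haveI : CompactSpace (U : Scheme.{u}) := isCompact_iff_compactSpace.mp hU
  let r := f.resLE O U hUO
  refine isQuasiAffine_of_basicOpen_cover fun x => ?_
  obtain ⟨i, y, hy⟩ := 𝒰.exists_eq (f (U.ι x))
  obtain ⟨_, ⟨_, ⟨s, rfl⟩, rfl⟩, hxs, hsle⟩ :=
    (isBasis_basicOpen (O : Scheme.{u})).exists_subset_of_mem_open
      (show r x ∈ O.ι ⁻¹ᵁ (𝒰.f i).opensRange from ⟨y, hy.trans (by
        rw [← Scheme.Hom.comp_apply, ← Scheme.Hom.comp_apply]; simp only [r, Scheme.Hom.resLE_comp_ι])⟩)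
      (O.ι ⁻¹ᵁ (𝒰.f i).opensRange).2
  refine ⟨r.appTop s, ?_, ?_⟩ <;> rw [← Scheme.preimage_basicOpen_top]
  · exact hxs
  let B := (O : Scheme.{u}).basicOpen s
  have hB : IsAffineOpen B := (isAffineOpen_top _).basicOpen s
  haveI : QuasiCompact r := quasiCompact_of_compactSpace r
  let Ur : X.Opens := U.ι ''ᵁ (r ⁻¹ᵁ B)
  have hUr : IsCompact (Ur : Set X) := (r.isCompact_preimage hB.isCompact).image U.ι.continuous
  let g' := pullback.fst f (𝒰.f i)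
  have hUrle : Ur ≤ g'.opensRange := by
    rintro _ ⟨z, hz, rfl⟩
    change U.ι z ∈ Set.range g'
    rw [IsOpenImmersion.range_pullbackFst]
    have hm : (r ≫ O.ι) z ∈ (𝒰.f i).opensRange := hsle hz
    rw [Scheme.Hom.resLE_comp_ι, Scheme.Hom.comp_apply] at hm
    exact hm
  have hB' : IsAffineOpen (O.ι ''ᵁ B) := hB.image_of_isOpenImmersion O.ι
  have hB'' : IsAffineOpen ((𝒰.f i) ⁻¹ᵁ (O.ι ''ᵁ B)) := hB'.preimage_of_isOpenImmersion _ (by
    rintro _ ⟨z, hz, rfl⟩; exact hsle hz)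
  have hc : IsCompact ((g' ⁻¹ᵁ Ur : Scheme.Opens _) : Set (pullback f (𝒰.f i) : Scheme.{u})) :=
    g'.isOpenEmbedding.isInducing.isCompact_preimage' hUr fun z hz => hUrle hz
  have hle : g' ⁻¹ᵁ Ur ≤ pullback.snd f (𝒰.f i) ⁻¹ᵁ ((𝒰.f i) ⁻¹ᵁ (O.ι ''ᵁ B)) := by
    rintro z ⟨w, hw, hwz⟩
    refine ⟨r w, hw, ?_⟩
    have e : (r ≫ O.ι) w = f (U.ι w) := by rw [Scheme.Hom.resLE_comp_ι, Scheme.Hom.comp_apply]
    change O.ι (r w) = 𝒰.f i (pullback.snd f (𝒰.f i) z)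
    rw [← Scheme.Hom.comp_apply, e]
    refine (congrArg f hwz).trans ?_
    rw [← Scheme.Hom.comp_apply, ← Scheme.Hom.comp_apply, pullback.condition]
  haveI : (g' ⁻¹ᵁ Ur : Scheme.{u}).IsQuasiAffine := isIndQuasiAffineHom_def.1 (H i) _ hB'' _ hle hc
  have e₁ : g' ''ᵁ (g' ⁻¹ᵁ Ur) = Ur := by
    rw [Scheme.Hom.image_preimage_eq_opensRange_inf, inf_eq_right.mpr hUrle]
  haveI : (Ur : Scheme.{u}).IsQuasiAffine :=
    .of_isAffineHom ((X.isoOfEq e₁).inv ≫ (g'.isoImage (g' ⁻¹ᵁ Ur)).inv)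
  exact .of_isAffineHom (U.ι.isoImage (r ⁻¹ᵁ B)).hom

instance isIndQuasiAffineHom_isStableUnderBaseChange :
    MorphismProperty.IsStableUnderBaseChange (fun {V X : Scheme.{u}} (q : V ⟶ X) => MoreMor.IsIndQuasiAffineHom q) :=
  ⟨fun pb h => Groth.FlatMor2.isIndQuasiAffineHom_baseChange pb.flip.flip h⟩

/-- Finite disjoint unions of ind-quasi-affine morphisms are ind-quasi-affine. -/
theorem isIndQuasiAffineHom_sigmaMap {m : ℕ} (Y V : Fin m → Scheme.{u}) (q : ∀ j, Y j ⟶ V j)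
    (hq : ∀ j, MoreMor.IsIndQuasiAffineHom (q j)) : MoreMor.IsIndQuasiAffineHom (Limits.Sigma.map q) := by
  refine isIndQuasiAffineHom_of_openCover _ (sigmaOpenCover V) fun (i : Fin m) => ?_
  have sq : IsPullback (Sigma.ι Y i) (q i) (Limits.Sigma.map q) (Sigma.ι V i) := by
    have e : Sigma.ι Y i ≫ Limits.Sigma.map q = q i ≫ Sigma.ι V i := Sigma.ι_map _ _
    refine (IsOpenImmersion.isPullback (q i) (Sigma.ι Y i) (Sigma.ι V i) (Limits.Sigma.map q) e ?_).flip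
    apply Opens.ext
    apply subset_antisymm
    · intro w hw
      obtain ⟨j, v, rfl⟩ := (sigmaOpenCover Y).exists_eq w
      change Limits.Sigma.map q (Sigma.ι Y j v) ∈ Set.range (Sigma.ι V i) at hw
      rw [← Scheme.Hom.comp_apply, Sigma.ι_map, Scheme.Hom.comp_apply] at hw
      obtain ⟨y, hy⟩ := hw
      obtain ⟨rfl⟩ : Nonempty (i = j) := ⟨(Sigma.mk.inj_iff.1 ((sigmaι_eq_iff V _ _ _ _).1 hy)).1⟩
      exact ⟨v, rfl⟩
    · rintro _ ⟨v, rfl⟩
      refine ⟨q i v, ?_⟩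
      rw [← Scheme.Hom.comp_apply, ← e, Scheme.Hom.comp_apply]
  change MoreMor.IsIndQuasiAffineHom (pullback.snd (Limits.Sigma.map q) (Sigma.ι V i))
  haveI : IsIso (𝟙 (V i)) := IsIso.id _
  exact Groth.FlatMor2.isIndQuasiAffineHom_baseChange (g' := sq.isoPullback.inv) (g := 𝟙 (V i))
    (IsPullback.of_horiz_isIso ⟨by rw [Category.comp_id]; exact sq.isoPullback_inv_snd⟩) (hq i)

end Groth.Pi1Desc
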