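import Groth.Prelude.Def_Desc
import Mathlib.AlgebraicGeometry.Sites.Fpqc
import Mathlib.AlgebraicGeometry.Morphisms.FlatDescent
import Mathlib.AlgebraicGeometry.PullbackCarrier
import Mathlib.AlgebraicGeometry.Morphisms.UniversallyOpen
import Mathlib.AlgebraicGeometry.Morphisms.FinitePresentation

/-!
# Descent data for schemes as actions, and their quotients
-/

universe u

set_option autoImplicit false
set_option backward.isDefEq.respectTransparency false

open CategoryTheory Limits AlgebraicGeometry TopologicalSpace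

namespace Groth.Pi1Desc

variable {V X S : Scheme.{u}}

/-- A covering morphism for the fpqc topology: flat, surjective and quasi-compact as a cover. -/
class IsCover (p : X ⟶ S) : Prop where
  flat : Flat p
  surjective : Surjective p
  qc : Presieve.singleton p ∈ Scheme.qcPrecoverage S

instance (priority := 900) (p : X ⟶ S) [Flat p] [Surjective p] [QuasiCompact p] : IsCover p :=
  ⟨‹_›, ‹_›, p.singleton_mem_qcPrecoverage⟩

instance (priority := 800) (p : X ⟶ S) [Flat p] [Surjective p] [LocallyOfFinitePresentation p] : IsCover p :=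
  ⟨‹_›, ‹_›, (Scheme.fppfPrecoverage_le_fpqcPrecoverage S p.singleton_mem_fppfPrecoverage).1⟩

theorem IsCover.of_isPullback {X' S' : Scheme.{u}} {p : X ⟶ S} {p' : X' ⟶ S'} {a : X' ⟶ X} {b : S' ⟶ S}
    (sq : IsPullback a p' p b) [IsCover p] : IsCover p' :=
  ⟨MorphismProperty.of_isPullback sq (IsCover.flat (p := p)),
    MorphismProperty.of_isPullback sq (IsCover.surjective (p := p)), by
    rw [← Presieve.ofArrows_pUnit.{u}]
    refine Precoverage.mem_coverings_of_isPullback (fun _ : PUnit.{u + 1} => p) ?_ b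
      (fun _ => p') (fun _ => a) (fun _ => sq.flip)
    rw [Presieve.ofArrows_pUnit]
    exact IsCover.qc⟩

theorem IsCover.mem_fpqc (p : X ⟶ S) [IsCover p] : Presieve.singleton p ∈ Scheme.fpqcPrecoverage S := by
  haveI := IsCover.flat (p := p); haveI := IsCover.surjective (p := p)
  refine ⟨IsCover.qc, ?_⟩
  exact (Scheme.singleton_mem_precoverage_iff (P := @Flat) p).2 ⟨p.surjective, ‹Flat p›⟩

theorem IsCover.effectiveEpi (p : X ⟶ S) [IsCover p] : EffectiveEpi p := by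
  rw [← Sieve.effectiveEpimorphic_singleton, Presieve.EffectiveEpimorphic.iff_forall_isSheafFor_yoneda]
  intro Z
  exact (GrothendieckTopology.Subcanonical.isSheaf_of_isRepresentable (J := Scheme.fpqcTopology) _).isSheafFor _
    (Precoverage.generate_mem_toGrothendieck (IsCover.mem_fpqc p))

theorem IsCover.exists_isCompact_image_eq (p : X ⟶ S) [IsCover p] {O : S.Opens} (hO : IsAffineOpen O) :
    ∃ K : X.Opens, IsCompact (K : Set X) ∧ p '' K = O := by
  have h : QuasiCompactCover (PreZeroHypercover.singleton.{u} p) := by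
    rw [← Scheme.presieve₀_mem_qcPrecoverage_iff, PreZeroHypercover.presieve₀_singleton]
    exact IsCover.qc
  exact IsCompactOpenCovered.iff_of_unique.1 (hO.isCompactOpenCovered (PreZeroHypercover.singleton.{u} p))

theorem IsCover.isQuotientMap (p : X ⟶ S) [IsCover p] : Topology.IsQuotientMap p := by
  haveI := IsCover.flat (p := p); haveI := IsCover.surjective (p := p)
  refine (Topology.isQuotientMap_iff _).2 ⟨.of_isOpen_preimage_iff_isOpen fun Z => ⟨fun hZ => ?_, fun hZ => hZ.preimage p.continuous⟩, p.surjective⟩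
  refine isOpen_iff_forall_mem_open.2 fun z hz => ?_
  obtain ⟨_, ⟨O, hO, rfl⟩, hzO, -⟩ :=
    S.isBasis_affineOpens.exists_subset_of_mem_open (Set.mem_univ z) isOpen_univ
  change S.Opens at O
  obtain ⟨K, hK, hKO⟩ := IsCover.exists_isCompact_image_eq p hO
  have hle : K ≤ p ⁻¹ᵁ O := fun x hx => (hKO ▸ ⟨x, hx, rfl⟩ : p x ∈ (O : Set S))
  let p₀ := p.resLE O K hle
  haveI : CompactSpace K.toScheme := isCompact_iff_compactSpace.mp hK
  haveI : IsAffine (Scheme.Opens.toScheme O) := hO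
  haveI : QuasiCompact p₀ := (quasiCompact_iff_compactSpace _).2 ‹_›
  haveI : Flat p₀ := IsZariskiLocalAtSource.resLE hle ‹_›
  haveI : Surjective p₀ := ⟨fun ⟨y, hy⟩ => by
    obtain ⟨x, hx, hxy⟩ := (hKO.symm ▸ hy : y ∈ p '' (K : Set X))
    refine ⟨⟨x, hx⟩, O.ι.isOpenEmbedding.injective ?_⟩
    rw [← Scheme.Hom.comp_apply, Scheme.Hom.resLE_comp_ι]
    exact hxy⟩
  refine ⟨O.ι '' (O.ι ⁻¹' Z), fun y => fun ⟨w, hw, hwy⟩ => hwy ▸ hw, O.ι.isOpenEmbedding.isOpenMap _ ?_,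
    ⟨⟨z, hzO⟩, hz, rfl⟩⟩
  rw [← (Flat.isQuotientMap_of_surjective p₀).isOpen_preimage, ← Set.preimage_comp]
  have e : (O.ι ∘ p₀ : K.toScheme → S) = p ∘ K.ι := by
    funext w
    simp only [Function.comp_apply, ← Scheme.Hom.comp_apply, p₀, Scheme.Hom.resLE_comp_ι]
  rw [e, Set.preimage_comp]
  exact hZ.preimage K.ι.continuous

/-- A descent datum on `h : V ⟶ X` relative to `p : X ⟶ S`, as an action of `X ×_S X` on points. -/
structure Act (h : V ⟶ X) (p : X ⟶ S) where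
  /-- the point over `x` equivalent to the point `v` -/
  act : ∀ {T : Scheme.{u}} (v : T ⟶ V) (x : T ⟶ X), v ≫ h ≫ p = x ≫ p → (T ⟶ V)
  act_hom : ∀ {T : Scheme.{u}} (v : T ⟶ V) (x : T ⟶ X) (e : v ≫ h ≫ p = x ≫ p), act v x e ≫ h = x
  act_self : ∀ {T : Scheme.{u}} (v : T ⟶ V) (x : T ⟶ X) (e : v ≫ h ≫ p = x ≫ p), v ≫ h = x → act v x e = v
  act_act : ∀ {T : Scheme.{u}} (v : T ⟶ V) (x y : T ⟶ X) (e : v ≫ h ≫ p = x ≫ p) (e' : v ≫ h ≫ p = y ≫ p)
    (e'' : act v x e ≫ h ≫ p = y ≫ p), act (act v x e) y e'' = act v y e'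
  act_comp : ∀ {T T' : Scheme.{u}} (g : T' ⟶ T) (v : T ⟶ V) (x : T ⟶ X) (e : v ≫ h ≫ p = x ≫ p)
    (e' : (g ≫ v) ≫ h ≫ p = (g ≫ x) ≫ p), act (g ≫ v) (g ≫ x) e' = g ≫ act v x e

namespace Act

variable {h : V ⟶ X} {p : X ⟶ S} (A : Act h p)

theorem congr {T : Scheme.{u}} {v v' : T ⟶ V} {x x' : T ⟶ X} (hv : v = v') (hx : x = x') (e e') :
    A.act v x e = A.act v' x' e' := by subst hv hx; rfl

theorem act_hom_assoc {T Z : Scheme.{u}} (v : T ⟶ V) (x : T ⟶ X) (e : v ≫ h ≫ p = x ≫ p) (f : X ⟶ Z) :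
    A.act v x e ≫ h ≫ f = x ≫ f := by rw [← Category.assoc, A.act_hom]

theorem comp_act {T T' : Scheme.{u}} (g : T' ⟶ T) (v : T ⟶ V) (x : T ⟶ X) (e : v ≫ h ≫ p = x ≫ p) :
    g ≫ A.act v x e = A.act (g ≫ v) (g ≫ x) (by rw [Category.assoc, e, Category.assoc]) :=
  (A.act_comp g v x e _).symm

/-- `W` is stable. -/
def Stable (W : V.Opens) : Prop :=
  ∀ (T : Scheme.{u}) (v : T ⟶ V) (x : T ⟶ X) (e : v ≫ h ≫ p = x ≫ p),
    (∀ t, v t ∈ W) → ∀ t, A.act v x e t ∈ W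

theorem stable_top : A.Stable ⊤ := fun _ _ _ _ _ _ => trivial

variable {A} in
theorem Stable.inf {W W' : V.Opens} (hW : A.Stable W) (hW' : A.Stable W') : A.Stable (W ⊓ W') :=
  fun T v x e H t => ⟨hW T v x e (fun s => (H s).1) t, hW' T v x e (fun s => (H s).2) t⟩

theorem stable_preimage (O : S.Opens) : A.Stable ((h ≫ p) ⁻¹ᵁ O) := fun T v x e H t => by
  change (h ≫ p) (A.act v x e t) ∈ O
  have h1 : (h ≫ p) (v t) ∈ O := H t
  rwa [← Scheme.Hom.comp_apply, A.act_hom_assoc, ← e, Scheme.Hom.comp_apply]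

/-- `q` exhibits `U` as the quotient of the stable open `W`. -/
structure IsQuot (W : V.Opens) {U : Scheme.{u}} (q : W.toScheme ⟶ U) (π : U ⟶ S) : Prop where
  isPullback : IsPullback q (W.ι ≫ h) π p
  compat : ∀ (T : Scheme.{u}) (w w' : T ⟶ W.toScheme) (e : (w ≫ W.ι) ≫ h ≫ p = (w' ≫ W.ι ≫ h) ≫ p),
    A.act (w ≫ W.ι) (w' ≫ W.ι ≫ h) e = w' ≫ W.ι → w' ≫ q = w ≫ q

/-- The datum descends on `W`. -/
def EffOn (W : V.Opens) : Prop :=
  ∃ (U : Scheme.{u}) (π : U ⟶ S) (q : W.toScheme ⟶ U), A.IsQuot W q π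

/-- The datum descends. -/
def Eff : Prop :=
  ∃ (U : Scheme.{u}) (π : U ⟶ S) (q : V ⟶ U), IsPullback q h π p ∧
    ∀ (T : Scheme.{u}) (v : T ⟶ V) (x : T ⟶ X) (e : v ≫ h ≫ p = x ≫ p), A.act v x e ≫ q = v ≫ q

namespace IsQuot

variable {A} {W : V.Opens} {U : Scheme.{u}} {q : W.toScheme ⟶ U} {π : U ⟶ S} (hq : A.IsQuot W q π)
include hq

theorem act_eq {T : Scheme.{u}} {w w' : T ⟶ W.toScheme} (hW : A.Stable W) (hww : w ≫ q = w' ≫ q) (e) :
    A.act (w ≫ W.ι) (w' ≫ W.ι ≫ h) e = w' ≫ W.ι := by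
  have hr : Set.range (A.act (w ≫ W.ι) (w' ≫ W.ι ≫ h) e) ⊆ Set.range W.ι := by
    rintro _ ⟨t, rfl⟩
    rw [Scheme.Opens.range_ι]
    exact hW T _ _ e (fun s => (w s).2) t
  let b := IsOpenImmersion.lift W.ι _ hr
  have hb : b ≫ W.ι = A.act (w ≫ W.ι) (w' ≫ W.ι ≫ h) e := IsOpenImmersion.lift_fac _ _ _
  have h1 : b ≫ W.ι ≫ h = w' ≫ W.ι ≫ h := by rw [← Category.assoc, hb, A.act_hom]
  have h2 : b ≫ q = w ≫ q :=
    hq.compat T w b (by rw [h1]; exact e) ((A.congr rfl h1 _ e).trans hb.symm)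
  rw [← hb, hq.isPullback.hom_ext (h2.trans hww) h1]

variable [IsCover p]

theorem isCover : IsCover q := IsCover.of_isPullback hq.isPullback.flip
theorem flat : Flat q := hq.isCover.flat
theorem surjective : Surjective q := hq.isCover.surjective
theorem effectiveEpi : EffectiveEpi q := by
  haveI := hq.isCover
  exact IsCover.effectiveEpi q

theorem isQuotientMap : Topology.IsQuotientMap q := by
  haveI := hq.isCover
  exact IsCover.isQuotientMap q

theorem hom_ext {Z : Scheme.{u}} {a b : U ⟶ Z} (hab : q ≫ a = q ≫ b) : a = b := by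
  haveI := hq.effectiveEpi
  exact (cancel_epi q).1 hab

theorem exists_desc (hW : A.Stable W) {Z : Scheme.{u}} (f : W.toScheme ⟶ Z)
    (hf : ∀ (T : Scheme.{u}) (w w' : T ⟶ W.toScheme) (e : (w ≫ W.ι) ≫ h ≫ p = (w' ≫ W.ι ≫ h) ≫ p),
      A.act (w ≫ W.ι) (w' ≫ W.ι ≫ h) e = w' ≫ W.ι → w' ≫ f = w ≫ f) :
    ∃ g : U ⟶ Z, q ≫ g = f := by
  haveI := hq.effectiveEpi
  refine ⟨EffectiveEpi.desc q f fun {T} w w' hww => ?_, EffectiveEpi.fac _ _ _⟩
  have e : (w ≫ W.ι) ≫ h ≫ p = (w' ≫ W.ι ≫ h) ≫ p := by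
    simp only [Category.assoc]
    have h1 := hq.isPullback.w
    simp only [Category.assoc] at h1
    rw [← h1, reassoc_of% hww]
  exact (hf T w w' e (hq.act_eq hW hww e)).symm

omit [IsCover p] in
/-- A stable open is saturated. -/
theorem saturated (hW : A.Stable W) {W₁ : V.Opens} (hW₁ : A.Stable W₁) {a b : W.toScheme} (hab : q a = q b)
    (ha : W.ι a ∈ W₁) : W.ι b ∈ W₁ := by
  obtain ⟨z, hz₁, hz₂⟩ := Scheme.Pullback.exists_preimage_pullback a b hab
  let O : (pullback q q).Opens := pullback.fst q q ⁻¹ᵁ (W.ι ⁻¹ᵁ W₁)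
  have hzO : z ∈ O := by change W.ι (pullback.fst q q z) ∈ W₁; rwa [hz₁]
  let w := O.ι ≫ pullback.fst q q
  let w' := O.ι ≫ pullback.snd q q
  have hww : w ≫ q = w' ≫ q := by simp only [w, w', Category.assoc, pullback.condition]
  have e : (w ≫ W.ι) ≫ h ≫ p = (w' ≫ W.ι ≫ h) ≫ p := by
    simp only [Category.assoc]
    have h1 := hq.isPullback.w
    simp only [Category.assoc] at h1
    rw [← h1, reassoc_of% hww]
  have hmem : (w' ≫ W.ι) ⟨z, hzO⟩ ∈ W₁ := by
    rw [← hq.act_eq hW hww e]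
    exact hW₁ _ _ _ e (fun s => s.2) _
  have hval : (w' ≫ W.ι) ⟨z, hzO⟩ = W.ι b := by
    simp only [w', Scheme.Hom.comp_apply]
    exact congrArg W.ι hz₂
  exact hval ▸ hmem

/-- The quotient restricts to stable opens. -/
theorem restrict (hW : A.Stable W) {W₁ : V.Opens} (hW₁ : A.Stable W₁) (hle : W₁ ≤ W) :
    ∃ (O : U.Opens) (q₁ : W₁.toScheme ⟶ O.toScheme),
      q₁ ≫ O.ι = V.homOfLE hle ≫ q ∧ A.IsQuot W₁ q₁ (O.ι ≫ π) := by
  let B : W.toScheme.Opens := W.ι ⁻¹ᵁ W₁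
  have hB : q ⁻¹' (q '' (B : Set W.toScheme)) = B :=
    subset_antisymm (fun b ⟨a, ha, hab⟩ => hq.saturated hW hW₁ hab ha) (Set.subset_preimage_image _ _)
  let O : U.Opens := ⟨q '' (B : Set W.toScheme), hq.isQuotientMap.isOpen_preimage.1 (hB.symm ▸ B.isOpen)⟩
  have hO : q ⁻¹ᵁ O = B := Opens.ext hB
  have hr : Set.range (V.homOfLE hle ≫ q) ⊆ Set.range O.ι := by
    rintro _ ⟨t, rfl⟩
    rw [Scheme.Opens.range_ι, Scheme.Hom.comp_apply]
    refine ⟨V.homOfLE hle t, ?_, rfl⟩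
    change W.ι (V.homOfLE hle t) ∈ W₁
    rw [← Scheme.Hom.comp_apply, Scheme.homOfLE_ι]
    exact t.2
  let q₁ := IsOpenImmersion.lift O.ι (V.homOfLE hle ≫ q) hr
  have hq₁ : q₁ ≫ O.ι = V.homOfLE hle ≫ q := IsOpenImmersion.lift_fac _ _ _
  have sq : IsPullback q₁ (V.homOfLE hle) O.ι q := IsOpenImmersion.isPullback _ _ _ _ hq₁.symm (by
    rw [Scheme.Opens.opensRange_ι, hO, Scheme.opensRange_homOfLE])
  refine ⟨O, q₁, hq₁, ⟨?_, fun T w w' e he => ?_⟩⟩
  · have := sq.paste_vert hq.isPullback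
    rwa [Scheme.homOfLE_ι_assoc] at this
  · rw [← cancel_mono O.ι, Category.assoc, Category.assoc, hq₁, ← Category.assoc, ← Category.assoc]
    refine hq.compat T (w ≫ V.homOfLE hle) (w' ≫ V.homOfLE hle) (by simpa using e) ?_
    simpa using he

end IsQuot

variable {A}

theorem EffOn.of_le [IsCover p] {W W₁ : V.Opens} (hE : A.EffOn W)
    (hW : A.Stable W) (hW₁ : A.Stable W₁) (hle : W₁ ≤ W) : A.EffOn W₁ := by
  obtain ⟨U, π, q, hq⟩ := hE
  obtain ⟨O, q₁, -, hq₁⟩ := hq.restrict hW hW₁ hle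
  exact ⟨_, _, q₁, hq₁⟩

end Act

section DD

variable {p : X ⟶ S} (D : Desc.SchDD p)

theorem φ_congr {T : Scheme.{u}} {x x' y y' : T ⟶ X} (hx : x = x') (hy : y = y') (e : x ≫ p = y ≫ p)
    (e' : x' ≫ p = y' ≫ p) (v : Desc.Lifts D.obj x) (v' : Desc.Lifts D.obj x') (hv : v.1 = v'.1) :
    (D.φ x y e v).1 = (D.φ x' y' e' v').1 := by
  subst hx hy
  obtain rfl : v = v' := Subtype.ext hv
  rfl

/-- A descent datum as an action. -/
noncomputable def ofDD : Act D.obj.hom p where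
  act v x e := (D.φ (v ≫ D.obj.hom) x ((Category.assoc _ _ _).trans e) ⟨v, rfl⟩).1
  act_hom v x e := (D.φ (v ≫ D.obj.hom) x ((Category.assoc _ _ _).trans e) ⟨v, rfl⟩).2
  act_self v x e hx := by
    subst hx
    exact congrArg Subtype.val (D.φ_self _ _)
  act_act v x y e e' e'' := by
    let a := D.φ (v ≫ D.obj.hom) x ((Category.assoc _ _ _).trans e) ⟨v, rfl⟩
    have exy : x ≫ p = y ≫ p := ((Category.assoc _ _ _).trans e).symm.trans ((Category.assoc _ _ _).trans e')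
    refine (φ_congr D a.2 rfl _ exy _ a rfl).trans ?_
    exact congrArg Subtype.val (D.φ_comp _ _ _ ((Category.assoc _ _ _).trans e) exy _)
  act_comp g v x e e' := by
    refine (φ_congr D (Category.assoc g v D.obj.hom) rfl _ ?_ _ ⟨g ≫ v, Category.assoc _ _ _⟩ rfl).trans
      (D.φ_natural g (v ≫ D.obj.hom) x ((Category.assoc _ _ _).trans e) _ ⟨v, rfl⟩ _ rfl)
    simpa using e'

theorem ofDD_act {T : Scheme.{u}} {x x' : T ⟶ X} (e : x ≫ p = x' ≫ p) (v : Desc.Lifts D.obj x) :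
    (D.φ x x' e v).1 = (ofDD D).act v.1 x' (by rw [← Category.assoc, v.2, e]) :=
  φ_congr D v.2.symm rfl e _ v ⟨v.1, rfl⟩ rfl

/-- A quotient of the action gives effectiveness of the descent datum. -/
theorem exists_iso_of_eff (hE : (ofDD D).Eff) :
    ∃ (U : Over S) (q : D.obj.left ⟶ U.left),
      IsPullback q D.obj.hom U.hom p ∧ Nonempty ((Desc.toDD p).obj U ≅ D) := by
  obtain ⟨U, π, q, hpb, hcompat⟩ := hE
  refine ⟨Over.mk π, q, hpb, ⟨?_⟩⟩
  let C := Desc.canonicalDD p (Over.mk π)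
  let e : pullback p π ≅ D.obj.left := hpb.flip.isoPullback.symm
  have e1 : e.hom ≫ D.obj.hom = pullback.fst p π := hpb.flip.isoPullback_inv_fst
  have e2 : e.hom ≫ q = pullback.snd p π := hpb.flip.isoPullback_inv_snd
  let F : C.obj ≅ D.obj := Over.isoMk e e1
  let fwd : C ⟶ D := ⟨F.hom, fun T x₀ x₁ hx v w hw => by
    have hw' : w.1 = v.1 ≫ e.hom := hw
    apply hpb.hom_ext
    · rw [ofDD_act D hx w, hcompat, hw', Category.assoc, e2]
      change v.1 ≫ pullback.snd p π = ((C.φ x₀ x₁ hx v).1 ≫ e.hom) ≫ q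
      rw [Category.assoc, e2]
      exact (pullback.lift_snd _ _ _).symm
    · rw [(D.φ x₀ x₁ hx w).2]
      change x₁ = ((C.φ x₀ x₁ hx v).1 ≫ e.hom) ≫ D.obj.hom
      rw [Category.assoc, e1]
      exact (pullback.lift_fst _ _ _).symm⟩
  let bwd : D ⟶ C := ⟨F.inv, fun T x₀ x₁ hx v w hw => by
    have hw' : w.1 = v.1 ≫ e.inv := hw
    rw [← cancel_mono e.hom]
    have := fwd.comm x₀ x₁ hx w v (by
      change v.1 = w.1 ≫ e.hom
      rw [hw', Category.assoc, e.inv_hom_id, Category.comp_id])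
    refine this.symm.trans ?_
    change (D.φ x₀ x₁ hx v).1 = ((D.φ x₀ x₁ hx v).1 ≫ e.inv) ≫ e.hom
    rw [Category.assoc, e.inv_hom_id, Category.comp_id]⟩
  exact ⟨fwd, bwd, Desc.SchDD.hom_ext F.hom_inv_id, Desc.SchDD.hom_ext F.inv_hom_id⟩

end DD

end Groth.Pi1Desc
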