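import Groth.Agent.Pi1Desc.General
import Mathlib.AlgebraicGeometry.Morphisms.UniversallyInjective
import Mathlib.AlgebraicGeometry.ResidueField

/-!
# Descent along universally injective morphisms
-/

universe u

set_option autoImplicit false
set_option backward.isDefEq.respectTransparency false

open CategoryTheory Limits AlgebraicGeometry TopologicalSpace

namespace Groth.Pi1Desc.Act

variable {V X S : Scheme.{u}} {h : V ⟶ X} {p : X ⟶ S} (A : Act h p)

/-- Restriction to a stable open. -/
noncomputable def restrict {W : V.Opens} (hW : A.Stable W) : Act (W.ι ≫ h) p where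
  act v x e := IsOpenImmersion.lift W.ι (A.act (v ≫ W.ι) x (by simpa using e)) (by
    rintro _ ⟨t, rfl⟩
    rw [Scheme.Opens.range_ι]
    exact hW _ _ _ _ (fun s => (v s).2) t)
  act_hom v x e := by rw [IsOpenImmersion.lift_fac_assoc, A.act_hom]
  act_self v x e hx := by
    rw [← cancel_mono W.ι, IsOpenImmersion.lift_fac, A.act_self _ _ _ (by rwa [Category.assoc])]
  act_act v x y e e' e'' := by
    rw [← cancel_mono W.ι]
    refine (IsOpenImmersion.lift_fac _ _ _).trans (Eq.trans ?_ (IsOpenImmersion.lift_fac _ _ _).symm)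
    refine (A.congr (IsOpenImmersion.lift_fac _ _ _) rfl _ ?_).trans (A.act_act _ _ _ _ _ _)
    rw [A.act_hom_assoc]
    simp only [IsOpenImmersion.lift_fac_assoc, Category.assoc] at e''
    rwa [A.act_hom_assoc] at e''
  act_comp g v x e e' := by
    rw [← cancel_mono W.ι]
    refine (IsOpenImmersion.lift_fac _ _ _).trans ?_
    conv_rhs => rw [Category.assoc, IsOpenImmersion.lift_fac, A.comp_act]
    exact A.congr (Category.assoc _ _ _) rfl _ _

theorem effOn_of_restrict {W : V.Opens} (hW : A.Stable W) (hE : (A.restrict hW).Eff) : A.EffOn W := by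
  obtain ⟨U, π, q, hpb, hcompat⟩ := hE
  refine ⟨U, π, q, hpb, fun T w w' e he => ?_⟩
  have e' : w ≫ (W.ι ≫ h) ≫ p = (w' ≫ W.ι ≫ h) ≫ p := by simpa using e
  rw [← hcompat T w _ e']
  congr 1
  rw [← cancel_mono W.ι]
  exact he.symm.trans (IsOpenImmersion.lift_fac _ _ _).symm

/-- For universally injective `p` every open is stable. -/
theorem stable_of_universallyInjective [UniversallyInjective p] (W : V.Opens) : A.Stable W := by
  intro T v x e hv t
  let ψ := T.fromSpecResidueField t
  have hx : (ψ ≫ v) ≫ h = ψ ≫ x := by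
    have inj : ∀ (K : Type u) [Field K], Function.Injective (fun g : Spec (.of K) ⟶ X ↦ g ≫ p) :=
      ((tfae_universallyInjective p).out 0 1 rfl rfl).1 ‹UniversallyInjective p›
    refine inj (T.residueField t) ?_
    simp only [Category.assoc, e]
  have he : (ψ ≫ v) ≫ h ≫ p = (ψ ≫ x) ≫ p := by rw [← Category.assoc, hx]
  have key : ψ ≫ A.act v x e = ψ ≫ v := by rw [A.comp_act, A.act_self _ _ _ hx]
  obtain ⟨z⟩ : Nonempty (Spec (T.residueField t)) := inferInstance
  have h1 := congrArg (fun g => g.base z) key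
  simp only [Scheme.Hom.comp_apply, ψ, Scheme.fromSpecResidueField_apply] at h1
  exact h1 ▸ hv t

/-- Descent is effective along fpqc universally injective morphisms. -/
theorem eff_of_universallyInjective [Flat p] [Surjective p] [QuasiCompact p] [UniversallyInjective p] : A.Eff := by
  haveI : IsAffineHom p := by
    have hp : IsHomeomorph p :=
      isHomeomorph_iff_isQuotientMap_injective.2 ⟨Flat.isQuotientMap_of_surjective p, p.injective⟩
    exact isAffineHom_of_isInducing p hp.isInducing hp.isClosedEmbedding.isClosed_range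
  refine eff_of_cover fun v => ?_
  obtain ⟨_, ⟨O, hO, rfl⟩, hvO, -⟩ :=
    S.isBasis_affineOpens.exists_subset_of_mem_open (Set.mem_univ ((h ≫ p) v)) isOpen_univ
  refine ⟨_, hvO, A.stable_preimage O, A.effOn_preimage ?_⟩
  haveI : IsAffine (Scheme.Opens.toScheme O) := hO
  haveI : IsAffine (p ⁻¹ᵁ O).toScheme := IsAffineOpen.preimage hO p
  haveI : Flat (p ∣_ O) := IsZariskiLocalAtTarget.restrict ‹_› O
  haveI : Surjective (p ∣_ O) := IsZariskiLocalAtTarget.restrict ‹_› O
  haveI : QuasiCompact (p ∣_ O) := IsZariskiLocalAtTarget.restrict ‹_› O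
  haveI : UniversallyInjective (p ∣_ O) := IsZariskiLocalAtTarget.restrict ‹_› O
  set A' := A.pullbackAct (isPullback_morphismRestrict h (p ⁻¹ᵁ O)).flip (morphismRestrict_ι p O)
  refine eff_of_cover fun z => ?_
  obtain ⟨_, ⟨W, hW, rfl⟩, hzW, -⟩ :=
    (Scheme.isBasis_affineOpens _).exists_subset_of_mem_open (Set.mem_univ z) isOpen_univ
  haveI : IsAffine (Scheme.Opens.toScheme W) := hW
  exact ⟨W, hzW, A'.stable_of_universallyInjective W,
    A'.effOn_of_restrict (A'.stable_of_universallyInjective W) (eff_of_isAffine _)⟩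

end Groth.Pi1Desc.Act
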