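import Mathlib.RingTheory.Ideal.GoingUp
import Mathlib.RingTheory.IntegralClosure.IsIntegralClosure.Basic
import Mathlib.Algebra.Module.Projective
import Mathlib.LinearAlgebra.Determinant
import Mathlib.RingTheory.Finiteness.Cardinality
import Mathlib.RingTheory.Spectrum.Prime.Basic

/-!
# The image of a principal closed subset under a finite projective algebra
-/

universe u

set_option autoImplicit false

namespace Groth.Pi1Desc

variable {K L : Type u} [CommRing K] [CommRing L] [Algebra K L]

/-- For a finite projective algebra, the set of primes below no prime containing `g` is a basic open. -/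
theorem exists_norm [Module.Finite K L] [Module.Projective K L] (g : L) :
    ∃ d : K, ∀ q : Ideal K, q.IsPrime →
      (d ∉ q ↔ ∀ P : Ideal L, P.IsPrime → P.comap (algebraMap K L) = q → g ∉ P) := by
  classical
  obtain ⟨n, s, i, -, -, hsi⟩ := Module.Finite.exists_comp_eq_id_of_projective K L
  have hsi' : ∀ x, s (i x) = x := fun x => LinearMap.congr_fun hsi x
  let E : (Fin n → K) →ₗ[K] (Fin n → K) :=
    i ∘ₗ LinearMap.mulLeft K g ∘ₗ s + (LinearMap.id - i ∘ₗ s)
  refine ⟨LinearMap.det E, fun q hq => ⟨fun hd P hP hPq hg => hd ?_, fun H hd => ?_⟩⟩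
  · -- the determinant is a multiple of `g`
    have hsE : ∀ x, s (E x) = g * s x := fun x => by
      simp only [E, LinearMap.add_apply, LinearMap.sub_apply, LinearMap.comp_apply, LinearMap.id_apply,
        map_add, map_sub, hsi', sub_self, add_zero, LinearMap.mulLeft_apply]
    let adj := Matrix.toLin' (LinearMap.toMatrix' E).adjugate
    have hadj : E (adj (i 1)) = LinearMap.det E • i 1 := by
      have h1 : E ∘ₗ adj = LinearMap.det E • LinearMap.id := by
        conv_lhs => rw [← Matrix.toLin'_toMatrix' E]
        rw [← Matrix.toLin'_mul, Matrix.mul_adjugate, LinearMap.det_toMatrix']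
        simp
      exact LinearMap.congr_fun h1 (i 1)
    have h2 : algebraMap K L (LinearMap.det E) = g * s (adj (i 1)) := by
      rw [← hsE, hadj, map_smul, hsi', Algebra.algebraMap_eq_smul_one]
    rw [← hPq, Ideal.mem_comap, h2]
    exact Ideal.mul_mem_right _ _ hg
  · have hk : ∃ k ∉ q, algebraMap K L k ∈ Ideal.span {g} := by
      by_contra hcon
      push Not at hcon
      haveI : Algebra.IsIntegral K L := Algebra.IsIntegral.of_finite K L
      obtain ⟨P, hgP, hP, hPq⟩ := Ideal.exists_ideal_over_prime_of_isIntegral q (Ideal.span {g})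
        (fun k hk => by_contra fun hkq => hcon k hkq hk)
      exact H P hP hPq (hgP (Ideal.subset_span rfl))
    obtain ⟨k, hkq, hk⟩ := hk
    obtain ⟨l, hl⟩ := Ideal.mem_span_singleton'.1 hk
    let F : (Fin n → K) →ₗ[K] (Fin n → K) :=
      i ∘ₗ LinearMap.mulLeft K l ∘ₗ s + k • (LinearMap.id - i ∘ₗ s)
    have hEF : E ∘ₗ F = k • LinearMap.id := by
      refine LinearMap.ext fun x => ?_
      have hgl : g * (l * s x) = k • s x := by
        rw [← mul_assoc, mul_comm g l, hl, Algebra.smul_def]
      simp only [E, F, LinearMap.add_apply, LinearMap.sub_apply, LinearMap.comp_apply, LinearMap.id_apply,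
        LinearMap.smul_apply, map_add, map_sub, map_smul, hsi', LinearMap.mulLeft_apply, sub_self,
        smul_zero, add_zero, hgl]
      simp [smul_sub]
    haveI : Nontrivial K := ⟨⟨0, 1, fun h => hq.ne_top ((Ideal.eq_top_iff_one q).2 (h ▸ q.zero_mem))⟩⟩
    refine hkq (hq.mem_of_pow_mem n ?_)
    have h := congrArg LinearMap.det hEF
    rw [LinearMap.det_comp, LinearMap.det_smul, LinearMap.det_id, mul_one, Module.finrank_pi,
      Fintype.card_fin] at h
    exact h ▸ Ideal.mul_mem_right _ _ hd

end Groth.Pi1Desc
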