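import Groth.Agent.Pi1Desc.Radicial
import Groth.Agent.Pi1Desc.NormImage
import Mathlib.AlgebraicGeometry.Fiber
import Mathlib.AlgebraicGeometry.Morphisms.QuasiFinite
import Mathlib.RingTheory.Finiteness.ModuleFinitePresentation
import Mathlib.RingTheory.Flat.EquationalCriterion
import Mathlib.RingTheory.RingHom.Flat
import Mathlib.RingTheory.RingHom.Finite

/-!
# Effective descent along finite locally free morphisms
-/

universe u

set_option autoImplicit false
set_option backward.isDefEq.respectTransparency false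

open CategoryTheory Limits AlgebraicGeometry TopologicalSpace

namespace Groth.Pi1Desc.Act

variable {V X S : Scheme.{u}} {h : V ⟶ X} {p : X ⟶ S} (A : Act h p)

/-- The first projection of the relation. -/
noncomputable abbrev d₁ (_A : Act h p) : pullback (h ≫ p) p ⟶ V := pullback.fst (h ≫ p) p

/-- The action map of the relation. -/
noncomputable abbrev σ : pullback (h ≫ p) p ⟶ V :=
  A.act (pullback.fst (h ≫ p) p) (pullback.snd (h ≫ p) p) pullback.condition

theorem act_eq_lift_σ {T : Scheme.{u}} (v : T ⟶ V) (x : T ⟶ X) (e : v ≫ h ≫ p = x ≫ p) :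
    A.act v x e = pullback.lift v x e ≫ A.σ := by
  rw [A.comp_act]
  exact A.congr (pullback.lift_fst _ _ _).symm (pullback.lift_snd _ _ _).symm _ _

theorem σ_hp (r : (pullback (h ≫ p) p : Scheme.{u})) : p (h (A.σ r)) = p (h (A.d₁ r)) := by
  have e : A.σ ≫ h ≫ p = A.d₁ ≫ h ≫ p := (A.act_hom_assoc _ _ _ p).trans pullback.condition.symm
  have e2 := congrArg (fun f : (pullback (h ≫ p) p : Scheme.{u}) ⟶ S => f.base r) e
  simp only [Scheme.Hom.comp_apply] at e2
  exact e2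

theorem exists_σ_eq (v : V) : ∃ r, A.d₁ r = v ∧ A.σ r = v := by
  refine ⟨pullback.lift (𝟙 V) h (Category.id_comp _) v, ?_, ?_⟩
  · rw [← Scheme.Hom.comp_apply, pullback.lift_fst]; rfl
  · rw [← Scheme.Hom.comp_apply, ← A.act_eq_lift_σ, A.act_self _ _ _ (Category.id_comp _)]; rfl

variable [IsFinite p]

/-- The largest stable subset of an open. -/
def core (O : V.Opens) : V.Opens :=
  ⟨(A.d₁ '' (A.σ ⁻¹' (O : Set V))ᶜ)ᶜ,
    (A.d₁.isClosedMap _ (O.isOpen.preimage A.σ.continuous).isClosed_compl).isOpen_compl⟩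

theorem mem_core {O : V.Opens} {v : V} : v ∈ A.core O ↔ ∀ r, A.d₁ r = v → A.σ r ∈ O := by
  change v ∉ A.d₁ '' _ ↔ _
  exact ⟨fun hn r hr => by_contra fun hr' => hn ⟨r, hr', hr⟩, fun H ⟨r, hr', hr⟩ => hr' (H r hr)⟩

theorem core_le (O : V.Opens) : A.core O ≤ O := fun v hv => by
  obtain ⟨r, h1, h2⟩ := A.exists_σ_eq v
  exact h2 ▸ A.mem_core.1 hv r h1

theorem stable_core (O : V.Opens) : A.Stable (A.core O) := by
  intro T v x e hv t
  rw [A.mem_core]
  intro r hr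
  obtain ⟨z, hz₁, hz₂⟩ := Scheme.Pullback.exists_preimage_pullback (f := A.act v x e) (g := A.d₁) t r hr.symm
  let g := pullback.fst (A.act v x e) A.d₁
  let s := pullback.snd (A.act v x e) A.d₁
  have e' : (g ≫ v) ≫ h ≫ p = (s ≫ pullback.snd (h ≫ p) p) ≫ p := by
    have hc : g ≫ A.act v x e = s ≫ A.d₁ := pullback.condition
    rw [Category.assoc, e, ← A.act_hom_assoc v x e p, reassoc_of% hc, Category.assoc]
    exact congrArg (s ≫ ·) pullback.condition
  have key : pullback.lift (g ≫ v) (s ≫ pullback.snd (h ≫ p) p) e' ≫ A.σ = s ≫ A.σ := by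
    rw [← A.act_eq_lift_σ, A.comp_act]
    have ex : (g ≫ v) ≫ h ≫ p = (g ≫ x) ≫ p := by rw [Category.assoc, e, Category.assoc]
    have hs : A.act (g ≫ v) (g ≫ x) ex = s ≫ A.d₁ := by rw [← A.comp_act g v x e]; exact pullback.condition
    refine (A.act_act (g ≫ v) (g ≫ x) (s ≫ pullback.snd (h ≫ p) p) ex e' ?_).symm.trans (A.congr hs rfl _ _)
    rw [A.act_hom_assoc, ← ex]; exact e'
  have := A.mem_core.1 (hv t) (pullback.lift (g ≫ v) (s ≫ pullback.snd (h ≫ p) p) e' z) (by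
    rw [← Scheme.Hom.comp_apply, pullback.lift_fst, Scheme.Hom.comp_apply]
    exact congrArg v hz₁)
  rwa [← Scheme.Hom.comp_apply, key, Scheme.Hom.comp_apply, hz₂] at this

variable [Flat p] [LocallyOfFinitePresentation p]

theorem isAffineOpen_core {U D : V.Opens} (hD : IsAffineOpen D) (f : Γ(V, U)) (hDf : D = V.basicOpen f)
    {W : V.Opens} (hW : A.Stable W) (hDW : D ≤ W) (hWU : W ≤ U) : IsAffineOpen (A.core D) := by
  let Rf := A.d₁ ⁻¹ᵁ D
  have hRf : IsAffineOpen Rf := hD.preimage A.d₁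
  have hle : Rf ≤ A.σ ⁻¹ᵁ U := fun r hr => by
    apply hWU
    have e : (Rf.ι ≫ A.d₁) ≫ h ≫ p = (Rf.ι ≫ pullback.snd (h ≫ p) p) ≫ p := by
      simp only [Category.assoc, pullback.condition]
    have := hW _ (Rf.ι ≫ A.d₁) (Rf.ι ≫ pullback.snd (h ≫ p) p) e (fun s => hDW s.2) ⟨r, hr⟩
    rw [← A.comp_act Rf.ι (pullback.fst (h ≫ p) p) (pullback.snd (h ≫ p) p) pullback.condition] at this
    exact this
  let g := A.σ.appLE U Rf hle f
  have hg : ∀ r, r ∈ Rf → (r ∈ (pullback (h ≫ p) p).basicOpen g ↔ A.σ r ∈ D) := fun r hr => by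
    rw [Scheme.basicOpen_appLE, hDf]
    exact ⟨fun hh => hh.2, fun hh => ⟨hr, hh⟩⟩
  haveI : Flat A.d₁ := MorphismProperty.pullback_fst _ _ ‹Flat p›
  haveI : LocallyOfFinitePresentation A.d₁ := MorphismProperty.pullback_fst _ _ ‹LocallyOfFinitePresentation p›
  letI : Algebra Γ(V, D) Γ(pullback (h ≫ p) p, Rf) := (A.d₁.app D).hom.toAlgebra
  haveI : Module.Finite Γ(V, D) Γ(pullback (h ≫ p) p, Rf) := IsFinite.finite_app (f := A.d₁) D hD
  haveI : Module.Flat Γ(V, D) Γ(pullback (h ≫ p) p, Rf) := by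
    have := A.d₁.flat_appLE hD hRf le_rfl
    rw [Scheme.Hom.appLE_eq_app] at this
    exact this
  haveI : Algebra.FinitePresentation Γ(V, D) Γ(pullback (h ≫ p) p, Rf) := by
    have := HasRingHomProperty.appLE (P := @LocallyOfFinitePresentation) A.d₁ inferInstance ⟨D, hD⟩ ⟨Rf, hRf⟩ le_rfl
    rw [Scheme.Hom.appLE_eq_app] at this
    exact this
  haveI : Module.FinitePresentation Γ(V, D) Γ(pullback (h ≫ p) p, Rf) :=
    Module.FinitePresentation.of_finite_of_finitePresentation _ _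
  haveI : Module.Projective Γ(V, D) Γ(pullback (h ≫ p) p, Rf) := Module.Flat.projective_of_finitePresentation
  obtain ⟨d, hd⟩ := exists_norm (K := Γ(V, D)) g
  have hsq := IsAffineOpen.SpecMap_appLE_fromSpec A.d₁ hD hRf le_rfl
  rw [Scheme.Hom.appLE_eq_app] at hsq
  have key : A.core D = V.basicOpen d := by
    apply Opens.ext
    ext v
    simp only [SetLike.mem_coe]
    by_cases hv : v ∈ D
    swap
    · exact ⟨fun hh => absurd (A.core_le D hh) hv, fun hh => absurd (V.basicOpen_le d hh) hv⟩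
    obtain ⟨q, rfl⟩ : v ∈ Set.range hD.fromSpec := by rw [hD.range_fromSpec]; exact hv
    have e1 : hD.fromSpec q ∈ V.basicOpen d ↔ d ∉ q.asIdeal :=
      (iff_of_eq (congrArg (q ∈ ·) (hD.fromSpec_preimage_basicOpen d)) : _)
    have e2 : ∀ P : Spec Γ(pullback (h ≫ p) p, Rf),
        A.d₁ (hRf.fromSpec P) = hD.fromSpec (Spec.map (A.d₁.app D) P) := fun P => by
      rw [← Scheme.Hom.comp_apply, ← hsq]; rfl
    rw [e1, hd q.asIdeal q.isPrime, A.mem_core]
    constructor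
    · intro H P hP hPq hgP
      let P' : Spec Γ(pullback (h ≫ p) p, Rf) := ⟨P, hP⟩
      have hr : A.d₁ (hRf.fromSpec P') = hD.fromSpec q := by
        rw [e2]; exact congrArg hD.fromSpec (PrimeSpectrum.ext hPq)
      have hmem : hRf.fromSpec P' ∈ Rf := by
        change A.d₁ (hRf.fromSpec P') ∈ D; rw [hr]; exact hv
      have hh := (hg _ hmem).2 (H _ hr)
      have hh' : P' ∈ hRf.fromSpec ⁻¹ᵁ (pullback (h ≫ p) p).basicOpen g := hh
      rw [hRf.fromSpec_preimage_basicOpen] at hh'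
      exact hh' hgP
    · intro H r hr
      have hrRf : r ∈ Rf := by change A.d₁ r ∈ D; rw [hr]; exact hv
      obtain ⟨P, rfl⟩ : r ∈ Set.range hRf.fromSpec := by rw [hRf.range_fromSpec]; exact hrRf
      rw [e2] at hr
      have hPq : Spec.map (A.d₁.app D) P = q := hD.fromSpec.isOpenEmbedding.injective hr
      refine (hg _ hrRf).1 ?_
      change P ∈ hRf.fromSpec ⁻¹ᵁ (pullback (h ≫ p) p).basicOpen g
      rw [hRf.fromSpec_preimage_basicOpen]
      exact H P.asIdeal P.isPrime (congrArg PrimeSpectrum.asIdeal hPq)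
  rw [key]
  exact hD.basicOpen d

variable [Surjective p]

theorem effOn_of_isAffineOpen {W : V.Opens} (hW : A.Stable W) (hWa : IsAffineOpen W) {O : S.Opens}
    (hO : IsAffineOpen O) (hWO : W ≤ (h ≫ p) ⁻¹ᵁ O) : A.EffOn W := by
  refine A.effOn_of_restrict hW (eff_of_cover fun z => ?_)
  haveI : IsAffine (Scheme.Opens.toScheme O) := hO
  haveI : IsAffine (p ⁻¹ᵁ O).toScheme := hO.preimage p
  haveI : Flat (p ∣_ O) := IsZariskiLocalAtTarget.restrict ‹_› O
  have htop : (W.ι ≫ h) ⁻¹ᵁ (p ⁻¹ᵁ O) = ⊤ := top_le_iff.1 fun w _ => by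
    change p ((W.ι ≫ h) w) ∈ O
    rw [Scheme.Hom.comp_apply]
    exact hWO w.2
  haveI : IsAffine ((W.ι ≫ h) ⁻¹ᵁ (p ⁻¹ᵁ O)).toScheme := by
    haveI : IsAffine W.toScheme := hWa
    rw [htop]
    exact isAffineOpen_top _
  exact ⟨((W.ι ≫ h) ≫ p) ⁻¹ᵁ O, (htop.ge (Set.mem_univ z) :), (A.restrict hW).stable_preimage O,
    (A.restrict hW).effOn_preimage (eff_of_isAffine _)⟩

/-- Descent along finite locally free morphisms is effective when every class lies in an affine. -/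
theorem eff_of_finite_class (hV : ∀ v₀ : V, ∃ U : V.Opens, IsAffineOpen U ∧
    ∀ r, A.d₁ r = v₀ → A.σ r ∈ U) : A.Eff := by
  classical
  refine eff_of_cover fun v₀ => ?_
  have hfin : (A.σ '' (A.d₁ ⁻¹' {v₀})).Finite := (A.d₁.finite_preimage_singleton v₀).image _
  let s := hfin.toFinset
  have hs : ∀ v, v ∈ s ↔ ∃ r, A.d₁ r = v₀ ∧ A.σ r = v := fun v => by simp [s]
  obtain ⟨U, hU, hU'⟩ := hV v₀
  have hsU : ∀ v ∈ s, v ∈ U := fun v hv => by
    obtain ⟨r, hr, rfl⟩ := (hs v).1 hv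
    exact hU' r hr
  obtain ⟨_, ⟨O, hO, rfl⟩, hxO, -⟩ :=
    S.isBasis_affineOpens.exists_subset_of_mem_open (Set.mem_univ (p (h v₀))) isOpen_univ
  let W := A.core U ⊓ (h ≫ p) ⁻¹ᵁ O
  have hW : A.Stable W := (A.stable_core U).inf (A.stable_preimage O)
  have hv₀U : v₀ ∈ A.core U := A.mem_core.2 fun r hr => hsU _ ((hs _).2 ⟨r, hr, rfl⟩)
  have hv₀W : v₀ ∈ W := ⟨hv₀U, hxO⟩
  have hsW : ∀ v ∈ s, v ∈ W := fun v hv => by
    obtain ⟨r, hr, rfl⟩ := (hs v).1 hv
    let T := A.d₁ ⁻¹ᵁ W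
    have e : (T.ι ≫ A.d₁) ≫ h ≫ p = (T.ι ≫ pullback.snd (h ≫ p) p) ≫ p := by
      simp only [Category.assoc, pullback.condition]
    have := hW _ (T.ι ≫ A.d₁) (T.ι ≫ pullback.snd (h ≫ p) p) e (fun t => t.2)
      ⟨r, show A.d₁ r ∈ W from hr ▸ hv₀W⟩
    rw [← A.comp_act T.ι (pullback.fst (h ≫ p) p) (pullback.snd (h ≫ p) p) pullback.condition] at this
    exact this
  let J : Ideal Γ(V, U) :=
    { carrier := {f | V.basicOpen f ≤ W}
      zero_mem' := by simp
      add_mem' := fun {a b} ha hb z hz => by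
        by_contra hz'
        have hzU : z ∈ U := V.basicOpen_le _ hz
        refine (V.evaluation_ne_zero_iff_mem_basicOpen z hzU (a + b)).2 hz ?_
        rw [map_add, (V.evaluation_eq_zero_iff_notMem_basicOpen z hzU a).2 fun h => hz' (ha h),
          (V.evaluation_eq_zero_iff_notMem_basicOpen z hzU b).2 fun h => hz' (hb h), add_zero]
      smul_mem' := fun c a ha => by
        change V.basicOpen (c * a) ≤ W
        rw [V.basicOpen_mul]; exact inf_le_right.trans ha }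
  let P : {v // v ∈ s} → Ideal Γ(V, U) := fun v => RingHom.ker (V.evaluation U v.1 (hsU v.1 v.2)).hom
  obtain ⟨v₁, hv₁⟩ : ∃ v, v ∈ s := ⟨v₀, by
    obtain ⟨r, h1, h2⟩ := A.exists_σ_eq v₀
    exact (hs v₀).2 ⟨r, h1, h2⟩⟩
  obtain ⟨f, hfJ, hfP⟩ : ∃ f ∈ J, ∀ v, f ∉ P v := by
    by_contra hcon
    push Not at hcon
    have hsub : (J : Set Γ(V, U)) ⊆ ⋃ v ∈ (↑(Finset.univ : Finset {v // v ∈ s}) : Set {v // v ∈ s}), (P v : Set Γ(V, U)) := by
      intro f hf
      obtain ⟨v, hv⟩ := hcon f hf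
      simp only [Set.mem_iUnion]
      exact ⟨v, by simp, hv⟩
    obtain ⟨v, -, hle⟩ := (Ideal.subset_union_prime (f := P) ⟨v₁, hv₁⟩ ⟨v₁, hv₁⟩
      (fun v _ _ _ => RingHom.ker_isPrime _)).1 hsub
    obtain ⟨f, hf, hvf⟩ := hU.exists_basicOpen_le (V := W) ⟨v.1, hsW v.1 v.2⟩ (hsU v.1 v.2)
    exact (V.evaluation_ne_zero_iff_mem_basicOpen _ (hsU v.1 v.2) f).2 hvf (hle (show f ∈ J from hf))
  have hsD : ∀ v ∈ s, v ∈ V.basicOpen f := fun v hv =>
    (V.evaluation_ne_zero_iff_mem_basicOpen _ (hsU v hv) f).1 (hfP ⟨v, hv⟩)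
  refine ⟨A.core (V.basicOpen f), A.mem_core.2 fun r hr => hsD _ ((hs _).2 ⟨r, hr, rfl⟩), A.stable_core _,
    A.effOn_of_isAffineOpen (A.stable_core _)
      (A.isAffineOpen_core (hU.basicOpen f) f rfl hW hfJ (inf_le_left.trans (A.core_le U))) hO ?_⟩
  exact (A.core_le _).trans (hfJ.trans inf_le_right)

/-- Descent along finite locally free morphisms is effective when finite subsets of fibres lie in affines. -/
theorem eff_of_finite (hV : ∀ (y : S) (s : Finset V), (∀ v ∈ s, p (h v) = y) →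
    ∃ U : V.Opens, IsAffineOpen U ∧ ∀ v ∈ s, v ∈ U) : A.Eff := by
  refine A.eff_of_finite_class fun v₀ => ?_
  have hfin : (A.σ '' (A.d₁ ⁻¹' {v₀})).Finite := (A.d₁.finite_preimage_singleton v₀).image _
  obtain ⟨U, hU, hsU⟩ := hV (p (h v₀)) hfin.toFinset fun v hv => by
    obtain ⟨r, hr, rfl⟩ := hfin.mem_toFinset.1 hv
    rw [A.σ_hp, show A.d₁ r = v₀ from hr]
  exact ⟨U, hU, fun r hr => hsU _ (hfin.mem_toFinset.2 ⟨r, hr, rfl⟩)⟩

end Groth.Pi1Desc.Act
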