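import Groth.Agent.Pi1Desc.Glue
import Groth.Prelude.Def_DescFam
import Mathlib.AlgebraicGeometry.Limits

/-!
# Descent data for a family as an action on the disjoint union
-/

universe u

set_option autoImplicit false
set_option backward.isDefEq.respectTransparency false

open CategoryTheory Limits AlgebraicGeometry TopologicalSpace

namespace Groth.Pi1Desc

theorem hom_eq_of_isEmpty {T Z : Scheme.{u}} [IsEmpty T] (f g : T ⟶ Z) : f = g :=
  (isInitialOfIsEmpty (X := T)).hom_ext f g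

theorem opensRange_sigmaι_cover {ι : Type u} (W : ι → Scheme.{u}) (w : (∐ W : Scheme.{u})) :
    ∃ i, w ∈ (Sigma.ι W i).opensRange := by
  obtain ⟨i, y, hy⟩ := Scheme.IsLocallyDirected.ι_jointly_surjective (Discrete.functor W) w
  exact ⟨i.as, y, hy⟩

theorem eq_of_sigmaι_comp {ι : Type u} {W : ι → Scheme.{u}} {T : Scheme.{u}} [Nonempty T] {i j : ι}
    (a : T ⟶ W i) (b : T ⟶ W j) (e : a ≫ Sigma.ι W i = b ≫ Sigma.ι W j) : i = j := by
  by_contra hne
  exact (isEmpty_of_commSq_sigmaι_of_ne ⟨e⟩ hne).false (Classical.arbitrary T)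

/-- The square of a component of a map of disjoint unions is cartesian. -/
theorem isPullback_sigma_map {ι : Type u} {V U : ι → Scheme.{u}} (h : ∀ i, V i ⟶ U i) (i : ι) :
    IsPullback (Sigma.ι V i) (h i) (Limits.Sigma.map h) (Sigma.ι U i) := by
  have e : Sigma.ι V i ≫ Limits.Sigma.map h = h i ≫ Sigma.ι U i := Sigma.ι_map _ _
  refine (IsOpenImmersion.isPullback (h i) (Sigma.ι V i) (Sigma.ι U i) (Limits.Sigma.map h) e ?_).flip
  apply Opens.ext
  apply subset_antisymm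
  · intro w hw
    obtain ⟨j, v, rfl⟩ := opensRange_sigmaι_cover V w
    change Limits.Sigma.map h (Sigma.ι V j v) ∈ Set.range (Sigma.ι U i) at hw
    rw [← Scheme.Hom.comp_apply, Sigma.ι_map, Scheme.Hom.comp_apply] at hw
    obtain ⟨y, hy⟩ := hw
    obtain ⟨rfl⟩ : Nonempty (i = j) := ⟨(Sigma.mk.inj_iff.1 ((sigmaι_eq_iff U _ _ _ _).1 hy)).1⟩
    exact ⟨v, rfl⟩
  · rintro _ ⟨v, rfl⟩
    refine ⟨h i v, ?_⟩
    rw [← Scheme.Hom.comp_apply, ← e, Scheme.Hom.comp_apply]

variable {ι : Type u} {S : Scheme.{u}} {U : ι → Scheme.{u}} {u : ∀ i, U i ⟶ S} (D : Desc.SchDDFam u)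

/-- The components of the datum. -/
abbrev famV : ι → Scheme.{u} := fun i => (D.obj i).left

/-- The structure map on disjoint unions. -/
noncomputable abbrev famHom : (∐ famV D) ⟶ ∐ U := Limits.Sigma.map fun i => (D.obj i).hom

theorem φ_val_congr {T : Scheme.{u}} {i j : ι} {x x' : T ⟶ U i} {y y' : T ⟶ U j} (hx : x = x') (hy : y = y')
    (e : x ≫ u i = y ≫ u j) (e' : x' ≫ u i = y' ≫ u j) (v : Desc.Lifts (D.obj i) x)
    (v' : Desc.Lifts (D.obj i) x') (hv : v.1 = v'.1) : (D.φ x y e v).1 = (D.φ x' y' e' v').1 := by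
  subst hx hy
  obtain rfl : v = v' := Subtype.ext hv
  rfl

/-- The bijections of the datum on component points. -/
noncomputable def famPhi {T : Scheme.{u}} {i j : ι} (a : T ⟶ famV D i) (b : T ⟶ U j)
    (e : a ≫ (D.obj i).hom ≫ u i = b ≫ u j) : T ⟶ famV D j :=
  (D.φ (a ≫ (D.obj i).hom) b ((Category.assoc _ _ _).trans e) ⟨a, rfl⟩).1

theorem famPhi_hom {T : Scheme.{u}} {i j : ι} (a : T ⟶ famV D i) (b : T ⟶ U j) (e) :
    famPhi D a b e ≫ (D.obj j).hom = b :=
  (D.φ (a ≫ (D.obj i).hom) b ((Category.assoc _ _ _).trans e) ⟨a, rfl⟩).2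

theorem famPhi_congr {T : Scheme.{u}} {i j : ι} {a a' : T ⟶ famV D i} {b b' : T ⟶ U j} (ha : a = a')
    (hb : b = b') (e e') : famPhi D a b e = famPhi D a' b' e' := by
  subst ha hb; rfl

theorem comp_famPhi {T T' : Scheme.{u}} (g : T' ⟶ T) {i j : ι} (a : T ⟶ famV D i) (b : T ⟶ U j) (e) :
    g ≫ famPhi D a b e = famPhi D (g ≫ a) (g ≫ b) (by rw [Category.assoc, e, Category.assoc]) :=
  (D.φ_natural g _ _ _ ((g ≫ a) ≫ (D.obj i).hom) (g ≫ b) (Category.assoc _ _ _).symm rfl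
    (by rw [Category.assoc, Category.assoc, e, Category.assoc]) ⟨a, rfl⟩ ⟨g ≫ a, rfl⟩ rfl).symm

theorem famPhi_self {T : Scheme.{u}} {i : ι} (a : T ⟶ famV D i) (e) :
    famPhi D a (a ≫ (D.obj i).hom) e = a :=
  congrArg Subtype.val (D.φ_self _ ⟨a, rfl⟩)

theorem famPhi_trans {T : Scheme.{u}} {i j k : ι} (a : T ⟶ famV D i) (b : T ⟶ U j) (c : T ⟶ U k) (e)
    (e' : famPhi D a b e ≫ (D.obj j).hom ≫ u j = c ≫ u k) (e'') :
    famPhi D (famPhi D a b e) c e' = famPhi D a c e'' := by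
  have hbc : b ≫ u j = c ≫ u k := by rw [← e', ← Category.assoc, famPhi_hom]
  refine (φ_val_congr D (famPhi_hom D a b e) rfl _ hbc _
    (D.φ (a ≫ (D.obj i).hom) b ((Category.assoc _ _ _).trans e) ⟨a, rfl⟩) rfl).trans ?_
  exact congrArg Subtype.val (D.φ_comp _ _ _ _ hbc _)

section part

variable {T : Scheme.{u}} (v : T ⟶ ∐ famV D) (x : T ⟶ ∐ U) (k : ι × ι)

/-- The piece of a test scheme on which the points lie in given components. -/
noncomputable def part : T.Opens :=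
  v ⁻¹ᵁ (Sigma.ι (famV D) k.1).opensRange ⊓ x ⁻¹ᵁ (Sigma.ι U k.2).opensRange

theorem iSup_part : ⨆ k, part D v x k = ⊤ := eq_top_iff.2 fun t _ => by
  obtain ⟨i, hi⟩ := opensRange_sigmaι_cover _ (v t)
  obtain ⟨j, hj⟩ := opensRange_sigmaι_cover _ (x t)
  exact Opens.mem_iSup.2 ⟨(i, j), hi, hj⟩

theorem range_part₁ : Set.range ((part D v x k).ι ≫ v) ⊆ Set.range (Sigma.ι (famV D) k.1) := by
  rintro _ ⟨t, rfl⟩; exact t.2.1

theorem range_part₂ : Set.range ((part D v x k).ι ≫ x) ⊆ Set.range (Sigma.ι U k.2) := by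
  rintro _ ⟨t, rfl⟩; exact t.2.2

theorem cond_of_comp (e : v ≫ famHom D ≫ Sigma.desc u = x ≫ Sigma.desc u) {T' : Scheme.{u}} (g : T' ⟶ T)
    {i j : ι} (a : T' ⟶ famV D i) (b : T' ⟶ U j) (ha : g ≫ v = a ≫ Sigma.ι _ i)
    (hb : g ≫ x = b ≫ Sigma.ι _ j) : a ≫ (D.obj i).hom ≫ u i = b ≫ u j := by
  have h1 := congrArg (g ≫ ·) e
  simp only [← Category.assoc, ha, hb] at h1
  simpa [Category.assoc, famHom] using h1

theorem part_cond (e : v ≫ famHom D ≫ Sigma.desc u = x ≫ Sigma.desc u) :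
    IsOpenImmersion.lift (Sigma.ι (famV D) k.1) _ (range_part₁ D v x k) ≫ (D.obj k.1).hom ≫ u k.1 =
      IsOpenImmersion.lift (Sigma.ι U k.2) _ (range_part₂ D v x k) ≫ u k.2 :=
  cond_of_comp D v x e (part D v x k).ι _ _ (IsOpenImmersion.lift_fac _ _ _).symm
    (IsOpenImmersion.lift_fac _ _ _).symm

/-- The action on a piece. -/
noncomputable def partAct (e : v ≫ famHom D ≫ Sigma.desc u = x ≫ Sigma.desc u) :
    (part D v x k).toScheme ⟶ ∐ famV D :=
  famPhi D _ _ (part_cond D v x k e) ≫ Sigma.ι (famV D) k.2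

end part

theorem exists_famAct {T : Scheme.{u}} (v : T ⟶ ∐ famV D) (x : T ⟶ ∐ U)
    (e : v ≫ famHom D ≫ Sigma.desc u = x ≫ Sigma.desc u) :
    ∃ w : T ⟶ ∐ famV D, ∀ k, (part D v x k).ι ≫ w = partAct D v x k e := by
  let 𝒰 := T.openCoverOfIsOpenCover _ (show IsOpenCover (part D v x) from iSup_part D v x)
  have hag : ∀ k l : ι × ι, pullback.fst (part D v x k).ι (part D v x l).ι ≫ partAct D v x k e =
      pullback.snd (part D v x k).ι (part D v x l).ι ≫ partAct D v x l e := by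
    intro k l
    by_cases hkl : k = l
    · subst hkl
      congr 1
      exact (cancel_mono (part D v x k).ι).1 pullback.condition
    · haveI : IsEmpty (pullback (part D v x k).ι (part D v x l).ι : Scheme.{u}) := ⟨fun z => hkl <| by
        have hk : (part D v x k).ι (pullback.fst (part D v x k).ι (part D v x l).ι z) ∈ part D v x k := (pullback.fst (part D v x k).ι (part D v x l).ι z).2
        have hl : (part D v x k).ι (pullback.fst (part D v x k).ι (part D v x l).ι z) ∈ part D v x l := by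
          rw [← Scheme.Hom.comp_apply, pullback.condition, Scheme.Hom.comp_apply]
          exact (pullback.snd (part D v x k).ι (part D v x l).ι z).2
        ext
        · by_contra hne
          exact (disjoint_opensRange_sigmaι _ _ _ hne).le_bot ⟨hk.1, hl.1⟩
        · by_contra hne
          exact (disjoint_opensRange_sigmaι _ _ _ hne).le_bot ⟨hk.2, hl.2⟩⟩
      exact hom_eq_of_isEmpty _ _
  exact ⟨𝒰.glueMorphisms (fun k => partAct D v x k e) hag, fun k => 𝒰.ι_glueMorphisms _ hag k⟩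

/-- The action on the disjoint union. -/
noncomputable def famActFun {T : Scheme.{u}} (v : T ⟶ ∐ famV D) (x : T ⟶ ∐ U)
    (e : v ≫ famHom D ≫ Sigma.desc u = x ≫ Sigma.desc u) : T ⟶ ∐ famV D :=
  (exists_famAct D v x e).choose

theorem famActFun_comp {T : Scheme.{u}} (v : T ⟶ ∐ famV D) (x : T ⟶ ∐ U) (e) {T' : Scheme.{u}} (g : T' ⟶ T)
    {i j : ι} (a : T' ⟶ famV D i) (b : T' ⟶ U j) (ha : g ≫ v = a ≫ Sigma.ι _ i)
    (hb : g ≫ x = b ≫ Sigma.ι _ j) (e' : a ≫ (D.obj i).hom ≫ u i = b ≫ u j) :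
    g ≫ famActFun D v x e = famPhi D a b e' ≫ Sigma.ι _ j := by
  have hr : Set.range g ⊆ Set.range (part D v x (i, j)).ι := by
    rintro _ ⟨t, rfl⟩
    rw [Scheme.Opens.range_ι]
    refine ⟨⟨a t, ?_⟩, ⟨b t, ?_⟩⟩
    · rw [← Scheme.Hom.comp_apply, ← ha, Scheme.Hom.comp_apply]
    · rw [← Scheme.Hom.comp_apply, ← hb, Scheme.Hom.comp_apply]
  let g' := IsOpenImmersion.lift (part D v x (i, j)).ι g hr
  have hg : g' ≫ (part D v x (i, j)).ι = g := IsOpenImmersion.lift_fac _ _ _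
  conv_lhs => rw [← hg, Category.assoc]
  rw [famActFun, (exists_famAct D v x e).choose_spec (i, j), partAct, ← Category.assoc, comp_famPhi]
  congr 1
  refine famPhi_congr D ?_ ?_ _ _
  · rw [← cancel_mono (Sigma.ι (famV D) i), Category.assoc, IsOpenImmersion.lift_fac, reassoc_of% hg, ha]
  · rw [← cancel_mono (Sigma.ι U j), Category.assoc, IsOpenImmersion.lift_fac, reassoc_of% hg, hb]

theorem hom_ext_part {T Z : Scheme.{u}} (v : T ⟶ ∐ famV D) (x : T ⟶ ∐ U) {f f' : T ⟶ Z}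
    (H : ∀ (T' : Scheme.{u}) (g : T' ⟶ T) (i j : ι) (a : T' ⟶ famV D i) (b : T' ⟶ U j),
      g ≫ v = a ≫ Sigma.ι _ i → g ≫ x = b ≫ Sigma.ι _ j → g ≫ f = g ≫ f') : f = f' :=
  (T.openCoverOfIsOpenCover _ (show IsOpenCover (part D v x) from iSup_part D v x)).hom_ext _ _ fun k =>
    H _ _ k.1 k.2 _ _ (IsOpenImmersion.lift_fac _ _ (range_part₁ D v x k)).symm
      (IsOpenImmersion.lift_fac _ _ (range_part₂ D v x k)).symm

/-- A descent datum for a family as an action on the disjoint union. -/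
noncomputable def ofDDFam : Act (famHom D) (Sigma.desc u) where
  act v x e := famActFun D v x e
  act_hom v x e := hom_ext_part D v x fun T' g i j a b ha hb => by
    have e' := cond_of_comp D v x e g a b ha hb
    rw [reassoc_of% (famActFun_comp D v x e g a b ha hb e'), Sigma.ι_map,
      reassoc_of% (famPhi_hom D a b e'), hb]
  act_self v x e hx := hom_ext_part D v x fun T' g i j a b ha hb => by
    have e' := cond_of_comp D v x e g a b ha hb
    rw [famActFun_comp D v x e g a b ha hb e', ha]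
    by_cases hne : Nonempty T'
    swap
    · haveI : IsEmpty T' := not_nonempty_iff.1 hne
      exact hom_eq_of_isEmpty _ _
    have hab : (a ≫ (D.obj i).hom) ≫ Sigma.ι U i = b ≫ Sigma.ι U j := by
      rw [← hb, ← hx, reassoc_of% ha, Sigma.ι_map, Category.assoc]
    obtain rfl := eq_of_sigmaι_comp _ _ hab
    obtain rfl := (cancel_mono (Sigma.ι U i)).1 hab
    rw [famPhi_self]
  act_act v x y e e' e'' := hom_ext_part D v x fun T' g i j a b ha hb =>
    hom_ext_part D (g ≫ v) (g ≫ y) fun T'' g' i' k a' c ha' hc => by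
      simp only [← Category.assoc] at ha' hc ⊢
      have hb' : (g' ≫ g) ≫ x = (g' ≫ b) ≫ Sigma.ι U j := by rw [Category.assoc, hb, Category.assoc]
      have h₁ := cond_of_comp D v x e (g' ≫ g) a' (g' ≫ b) ha' hb'
      have h₂ := cond_of_comp D v y e' (g' ≫ g) a' c ha' hc
      have hact := famActFun_comp D v x e (g' ≫ g) a' (g' ≫ b) ha' hb' h₁
      have h₃ := cond_of_comp D _ y e'' (g' ≫ g) (famPhi D a' (g' ≫ b) h₁) c hact hc
      rw [famActFun_comp D _ y e'' (g' ≫ g) _ c hact hc h₃, famActFun_comp D v y e' (g' ≫ g) a' c ha' hc h₂,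
        famPhi_trans D a' _ c h₁ h₃ h₂]
  act_comp g v x e e' := hom_ext_part D (g ≫ v) (g ≫ x) fun T' g' i j a b ha hb => by
    simp only [← Category.assoc] at ha hb ⊢
    rw [famActFun_comp D v x e (g' ≫ g) a b ha hb (cond_of_comp D v x e (g' ≫ g) a b ha hb)]
    exact famActFun_comp D _ _ e' g' a b (by rw [← ha, Category.assoc]) (by rw [← hb, Category.assoc]) _

/-- A quotient of the action gives effectiveness of the datum for the family. -/
theorem isEffective_of_eff (hE : (ofDDFam D).Eff) : D.IsEffective := by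
  obtain ⟨Q, π, q, hpb, hcompat⟩ := hE
  have hpbi : ∀ i, IsPullback (Sigma.ι (famV D) i ≫ q) (D.obj i).hom π (u i) := fun i => by
    have := (isPullback_sigma_map (fun i => (D.obj i).hom) i).paste_horiz hpb
    rwa [Sigma.ι_desc] at this
  have key : ∀ {T : Scheme.{u}} {i j : ι} (x₀ : T ⟶ U i) (x₁ : T ⟶ U j) (hx : x₀ ≫ u i = x₁ ≫ u j)
      (w : Desc.Lifts (D.obj i) x₀),
      (D.φ x₀ x₁ hx w).1 ≫ Sigma.ι (famV D) j ≫ q = w.1 ≫ Sigma.ι (famV D) i ≫ q := by
    intro T i j x₀ x₁ hx w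
    have e' : w.1 ≫ (D.obj i).hom ≫ u i = x₁ ≫ u j := by rw [← Category.assoc, w.2, hx]
    have e : (w.1 ≫ Sigma.ι (famV D) i) ≫ famHom D ≫ Sigma.desc u = (x₁ ≫ Sigma.ι U j) ≫ Sigma.desc u := by
      simp only [famHom, Category.assoc, Sigma.ι_map_assoc, Sigma.ι_desc]; exact e'
    have h := hcompat T _ _ e
    have hact := famActFun_comp D _ _ e (𝟙 T) w.1 x₁ (Category.id_comp _) (Category.id_comp _) e'
    rw [Category.id_comp] at hact
    change famActFun D _ _ e ≫ q = _ at h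
    rw [hact, Category.assoc] at h
    rw [← Category.assoc w.1, ← h, φ_val_congr D w.2.symm rfl hx ((Category.assoc _ _ _).trans e') w ⟨w.1, rfl⟩ rfl]
    rfl
  let C := Desc.canonicalDDFam u (Over.mk π)
  let e : ∀ i, pullback (u i) π ≅ (D.obj i).left := fun i => (hpbi i).flip.isoPullback.symm
  have e1 : ∀ i, (e i).hom ≫ (D.obj i).hom = pullback.fst (u i) π := fun i => (hpbi i).flip.isoPullback_inv_fst
  have e2 : ∀ i, (e i).hom ≫ Sigma.ι (famV D) i ≫ q = pullback.snd (u i) π :=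
    fun i => (hpbi i).flip.isoPullback_inv_snd
  let F : ∀ i, C.obj i ≅ D.obj i := fun i => Over.isoMk (e i) (e1 i)
  let fwd : C ⟶ D := ⟨fun i => (F i).hom, fun T i j x₀ x₁ hx v w hw => by
    have hw' : w.1 = v.1 ≫ (e i).hom := hw
    apply (hpbi j).hom_ext
    · rw [key, hw', Category.assoc, e2]
      change v.1 ≫ pullback.snd (u i) π = ((C.φ x₀ x₁ hx v).1 ≫ (e j).hom) ≫ Sigma.ι (famV D) j ≫ q
      rw [Category.assoc, e2]
      exact (pullback.lift_snd _ _ _).symm
    · rw [(D.φ x₀ x₁ hx w).2]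
      change x₁ = ((C.φ x₀ x₁ hx v).1 ≫ (e j).hom) ≫ (D.obj j).hom
      rw [Category.assoc, e1]
      exact (pullback.lift_fst _ _ _).symm⟩
  let bwd : D ⟶ C := ⟨fun i => (F i).inv, fun T i j x₀ x₁ hx v w hw => by
    have hw' : w.1 = v.1 ≫ (e i).inv := hw
    rw [← cancel_mono (e j).hom]
    have := fwd.comm x₀ x₁ hx w v (by
      change v.1 = w.1 ≫ (e i).hom
      rw [hw', Category.assoc, (e i).inv_hom_id, Category.comp_id])
    refine this.symm.trans ?_
    change (D.φ x₀ x₁ hx v).1 = ((D.φ x₀ x₁ hx v).1 ≫ (e j).inv) ≫ (e j).hom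
    rw [Category.assoc, (e j).inv_hom_id, Category.comp_id]⟩
  exact ⟨Over.mk π, ⟨⟨fwd, bwd, Desc.SchDDFam.hom_ext (funext fun i => (F i).hom_inv_id),
    Desc.SchDDFam.hom_ext (funext fun i => (F i).inv_hom_id)⟩⟩⟩

end Groth.Pi1Desc
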