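import Groth.Agent.Pi1Desc.Glue
import Mathlib.RingTheory.Flat.Basic
import Mathlib.RingTheory.TensorProduct.Maps

/-!
# Effective descent for affine schemes
-/

universe u

set_option autoImplicit false
set_option backward.isDefEq.respectTransparency false

open CategoryTheory Limits AlgebraicGeometry TopologicalSpace TensorProduct

namespace Groth.Pi1Desc

section Algebra

variable {A B C : Type u} [CommRing A] [CommRing B] [CommRing C] [Algebra A B] [Algebra A C]
  (φ : B →ₐ[A] C) (e : C →ₐ[A] C ⊗[A] B)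

/-- The invariants of a coaction. -/
def invAlg : Subalgebra A C := AlgHom.equalizer e Algebra.TensorProduct.includeLeft

/-- The comparison map. -/
noncomputable def mu : invAlg e ⊗[A] B →ₐ[A] C :=
  Algebra.TensorProduct.lift (invAlg e).val φ fun _ _ => Commute.all _ _

theorem mu_bijective [Module.Flat A B]
    (hφ : ∀ b, e (φ b) = 1 ⊗ₜ b)
    (hε : ∀ c, Algebra.TensorProduct.lift (AlgHom.id A C) φ (fun _ _ => Commute.all _ _) (e c) = c)
    (hcoc : ∀ c, e.toLinearMap.rTensor B (e c) =
      (Algebra.TensorProduct.includeLeft (R := A) (S := A) (A := C) (B := B)).toLinearMap.rTensor B (e c)) :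
    Function.Bijective (mu φ e) := by
  let incl := (invAlg e).val.toLinearMap.rTensor B
  have hincl : Function.Injective incl :=
    Module.Flat.rTensor_preserves_injective_linearMap (M := B) _ Subtype.val_injective
  have h1 : ∀ z, e (mu φ e z) = incl z := fun z => by
    induction z using TensorProduct.induction_on with
    | zero => simp only [map_zero]
    | add a b ha hb => simp only [map_add, ha, hb]
    | tmul c b =>
      change e ((c : C) * φ b) = (c : C) ⊗ₜ b
      rw [map_mul, hφ, show e (c : C) = (c : C) ⊗ₜ (1 : B) from c.2, Algebra.TensorProduct.tmul_mul_tmul,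
        mul_one, one_mul]
  have h2 : ∀ z, Algebra.TensorProduct.lift (AlgHom.id A C) φ (fun _ _ => Commute.all _ _) (incl z) = mu φ e z :=
    fun z => by
    induction z using TensorProduct.induction_on with
    | zero => simp only [map_zero]
    | add a b ha hb => simp only [map_add, ha, hb]
    | tmul c b => rfl
  refine ⟨fun a b hab => hincl (by rw [← h1, ← h1, hab]), fun c => ?_⟩
  let d := e.toLinearMap - (Algebra.TensorProduct.includeLeft (R := A) (S := A) (A := C) (B := B)).toLinearMap
  have hex : Function.Exact (invAlg e).val.toLinearMap d := by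
    intro x
    refine ⟨fun hx => ⟨⟨x, sub_eq_zero.1 hx⟩, rfl⟩, ?_⟩
    rintro ⟨y, rfl⟩
    exact sub_eq_zero.2 y.2
  obtain ⟨z, hz⟩ := (Module.Flat.rTensor_exact B hex (e c)).1 (by
    rw [LinearMap.rTensor_sub, LinearMap.sub_apply, hcoc, sub_self])
  refine ⟨z, ?_⟩
  rw [← h2, show incl z = e c from hz, hε]

end Algebra

namespace Act

theorem eff_of_spec {A B C : Type u} [CommRing A] [CommRing B] [CommRing C] [Algebra A B] [Algebra A C]
    [Module.Flat A B] (φ : B →ₐ[A] C)
    (α : Act (Spec.map (CommRingCat.ofHom φ.toRingHom)) (Spec.map (CommRingCat.ofHom (algebraMap A B)))) :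
    α.Eff := by
  let iL : CommRingCat.of C ⟶ CommRingCat.of (C ⊗[A] B) := CommRingCat.ofHom Algebra.TensorProduct.includeLeftRingHom
  let iR : CommRingCat.of B ⟶ CommRingCat.of (C ⊗[A] B) :=
    CommRingCat.ofHom (Algebra.TensorProduct.includeRight (R := A) (A := C) (B := B)).toRingHom
  let fB : CommRingCat.of A ⟶ CommRingCat.of B := CommRingCat.ofHom (algebraMap A B)
  let fC : CommRingCat.of A ⟶ CommRingCat.of C := CommRingCat.ofHom (algebraMap A C)
  let hφC : CommRingCat.of B ⟶ CommRingCat.of C := CommRingCat.ofHom φ.toRingHom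
  have hfC : fB ≫ hφC = fC := CommRingCat.hom_ext φ.comp_algebraMap
  have hpo : fC ≫ iL = fB ≫ iR := (CommRingCat.isPushout_tensorProduct A C B).w
  have hR : IsPullback (Spec.map iL) (Spec.map iR) (Spec.map fC) (Spec.map fB) :=
    isPullback_SpecMap_of_isPushout _ _ _ _ (CommRingCat.isPushout_tensorProduct A C B)
  have hh : Spec.map hφC ≫ Spec.map fB = Spec.map fC := by rw [← Spec.map_comp, hfC]
  have eR : Spec.map iL ≫ Spec.map hφC ≫ Spec.map fB = Spec.map iR ≫ Spec.map fB := by rw [hh, hR.w]
  let σ := α.act (Spec.map iL) (Spec.map iR) eR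
  let e₀ := Spec.preimage σ
  have he₀ : Spec.map e₀ = σ := Spec.map_preimage _
  have hφe : hφC ≫ e₀ = iR := by
    apply Spec.map_injective
    rw [Spec.map_comp, he₀]
    exact α.act_hom _ _ _
  have hA : fC ≫ e₀ = fC ≫ iL := by rw [← hfC, Category.assoc, hφe, ← hpo, hfC]
  let e : C →ₐ[A] C ⊗[A] B := { e₀.hom with
    commutes' := fun r => (RingHom.congr_fun (congrArg CommRingCat.Hom.hom hA) r : _) }
  have he : CommRingCat.ofHom e.toRingHom = e₀ := rfl
  have hφ : ∀ b, e (φ b) = 1 ⊗ₜ b := fun b => RingHom.congr_fun (congrArg CommRingCat.Hom.hom hφe) b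
  -- unit
  have hε : ∀ c, Algebra.TensorProduct.lift (AlgHom.id A C) φ (fun _ _ => Commute.all _ _) (e c) = c := by
    let ε : CommRingCat.of (C ⊗[A] B) ⟶ CommRingCat.of C :=
      CommRingCat.ofHom (Algebra.TensorProduct.lift (AlgHom.id A C) φ fun _ _ => Commute.all _ _).toRingHom
    have e1 : iL ≫ ε = 𝟙 _ := CommRingCat.hom_ext (RingHom.ext fun c =>
      (Algebra.TensorProduct.lift_tmul (AlgHom.id A C) φ (fun _ _ => Commute.all _ _) c (1 : B)).trans (by simp))
    have e2 : iR ≫ ε = hφC := CommRingCat.hom_ext (RingHom.ext fun b =>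
      (Algebra.TensorProduct.lift_tmul (AlgHom.id A C) φ (fun _ _ => Commute.all _ _) (1 : C) b).trans (by simp [hφC]))
    have : e₀ ≫ ε = 𝟙 _ := by
      apply Spec.map_injective
      rw [Spec.map_comp, he₀, Spec.map_id, α.comp_act]
      have h1 : Spec.map ε ≫ Spec.map iL = 𝟙 _ := by rw [← Spec.map_comp, e1, Spec.map_id]
      have h2 : Spec.map ε ≫ Spec.map iR = Spec.map hφC := by rw [← Spec.map_comp, e2]
      refine (α.congr h1 h2 _ (by rw [Category.id_comp])).trans (α.act_self _ _ _ ?_)
      exact Category.id_comp _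
    exact fun c => RingHom.congr_fun (congrArg CommRingCat.Hom.hom this) c
  -- cocycle
  have hcoc : ∀ c, e.toLinearMap.rTensor B (e c) =
      (Algebra.TensorProduct.includeLeft (R := A) (S := A) (A := C) (B := B)).toLinearMap.rTensor B (e c) := by
    let T := CommRingCat.of ((C ⊗[A] B) ⊗[A] B)
    let jL : CommRingCat.of (C ⊗[A] B) ⟶ T := CommRingCat.ofHom Algebra.TensorProduct.includeLeftRingHom
    let jR : CommRingCat.of B ⟶ T :=
      CommRingCat.ofHom (Algebra.TensorProduct.includeRight (R := A) (A := C ⊗[A] B) (B := B)).toRingHom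
    let m₁ : CommRingCat.of (C ⊗[A] B) ⟶ T :=
      CommRingCat.ofHom (Algebra.TensorProduct.map e (AlgHom.id A B)).toRingHom
    let m₂ : CommRingCat.of (C ⊗[A] B) ⟶ T :=
      CommRingCat.ofHom (Algebra.TensorProduct.map
        (Algebra.TensorProduct.includeLeft (R := A) (S := A) (A := C) (B := B)) (AlgHom.id A B)).toRingHom
    have l1 : iL ≫ m₁ = e₀ ≫ jL := CommRingCat.hom_ext (RingHom.ext fun c => Algebra.TensorProduct.map_tmul e (AlgHom.id A B) c 1)
    have r1 : iR ≫ m₁ = jR := CommRingCat.hom_ext (RingHom.ext fun b => by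
      change Algebra.TensorProduct.map e (AlgHom.id A B) ((1 : C) ⊗ₜ b) = (1 : C ⊗[A] B) ⊗ₜ b
      rw [Algebra.TensorProduct.map_tmul, map_one]; rfl)
    have l2 : iL ≫ m₂ = iL ≫ jL := CommRingCat.hom_ext (RingHom.ext fun c =>
      Algebra.TensorProduct.map_tmul _ (AlgHom.id A B) c 1)
    have r2 : iR ≫ m₂ = jR := CommRingCat.hom_ext (RingHom.ext fun b => by
      change Algebra.TensorProduct.map (Algebra.TensorProduct.includeLeft (R := A) (S := A) (A := C) (B := B))
        (AlgHom.id A B) ((1 : C) ⊗ₜ b) = (1 : C ⊗[A] B) ⊗ₜ b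
      rw [Algebra.TensorProduct.map_tmul, map_one]; rfl)
    have hjA : fC ≫ iL ≫ jL = fB ≫ jR := by
      rw [← l2, ← Category.assoc, hpo, Category.assoc, r2]
    have : e₀ ≫ m₁ = e₀ ≫ m₂ := by
      apply Spec.map_injective
      rw [Spec.map_comp, Spec.map_comp, he₀, α.comp_act, α.comp_act]
      have a1 : Spec.map m₁ ≫ Spec.map iL = α.act (Spec.map (iL ≫ jL)) (Spec.map (iR ≫ jL)) (by
          simp only [Spec.map_comp, Category.assoc]; rw [eR]) := by
        rw [← Spec.map_comp, l1, Spec.map_comp, he₀, α.comp_act]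
        exact α.congr (Spec.map_comp _ _).symm (Spec.map_comp _ _).symm _ _
      have a2 : Spec.map m₂ ≫ Spec.map iL = Spec.map (iL ≫ jL) := by rw [← Spec.map_comp, l2]
      have b1 : Spec.map m₁ ≫ Spec.map iR = Spec.map jR := by rw [← Spec.map_comp, r1]
      have b2 : Spec.map m₂ ≫ Spec.map iR = Spec.map jR := by rw [← Spec.map_comp, r2]
      have eY : Spec.map (iL ≫ jL) ≫ Spec.map hφC ≫ Spec.map fB = Spec.map jR ≫ Spec.map fB := by
        rw [hh, ← Spec.map_comp, ← Spec.map_comp, hjA]
      refine (α.congr a1 b1 _ ?_).trans ((α.act_act _ _ _ _ eY ?_).trans (α.congr a2.symm b2.symm _ _))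
      · rw [α.act_hom_assoc, ← Spec.map_comp, ← Spec.map_comp, ← Category.assoc, ← hpo, Category.assoc, hjA]
      · rw [α.act_hom_assoc, ← Spec.map_comp, ← Spec.map_comp, ← Category.assoc, ← hpo, Category.assoc, hjA]
    intro c
    have hm : ∀ (f : C →ₐ[A] C ⊗[A] B) z, f.toLinearMap.rTensor B z = Algebra.TensorProduct.map f (AlgHom.id A B) z :=
      fun f z => by
        induction z using TensorProduct.induction_on with
        | zero => simp only [map_zero]
        | add a b ha hb => simp only [map_add, ha, hb]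
        | tmul a b => rfl
    rw [hm, hm]
    exact RingHom.congr_fun (congrArg CommRingCat.Hom.hom this) c
  have hμ := mu_bijective φ e hφ hε hcoc
  let C₀ := invAlg e
  let i₀ : CommRingCat.of C₀ ⟶ CommRingCat.of C := CommRingCat.ofHom C₀.val.toRingHom
  let g₀ : CommRingCat.of A ⟶ CommRingCat.of C₀ := CommRingCat.ofHom (algebraMap A C₀)
  refine ⟨Spec (CommRingCat.of C₀), Spec.map g₀, Spec.map i₀, ?_, fun T v x hv => ?_⟩
  · let μ : CommRingCat.of (C₀ ⊗[A] B) ≅ CommRingCat.of C := (RingEquiv.ofBijective (mu φ e).toRingHom hμ).toCommRingCatIso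
    have hpb : IsPushout g₀ fB i₀ hφC := (CommRingCat.isPushout_tensorProduct A C₀ B).of_iso
      (Iso.refl _) (Iso.refl _) (Iso.refl _) μ (by simp [g₀]) (by simp [fB])
      (CommRingCat.hom_ext (RingHom.ext fun c => by
        change mu φ e (c ⊗ₜ (1 : B)) = (c : C)
        simp [mu]))
      (CommRingCat.hom_ext (RingHom.ext fun b => by
        change mu φ e ((1 : C₀) ⊗ₜ b) = φ b
        simp [mu]))
    exact isPullback_SpecMap_of_isPushout _ _ _ _ hpb
  · have hcond : v ≫ Spec.map fC = x ≫ Spec.map fB := by rw [← hh]; exact hv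
    let r := hR.lift v x hcond
    have hact : α.act v x hv = r ≫ σ := by
      rw [α.comp_act]
      exact α.congr (hR.lift_fst v x hcond).symm (hR.lift_snd v x hcond).symm _ _
    have hinv : i₀ ≫ e₀ = i₀ ≫ iL := CommRingCat.hom_ext (RingHom.ext fun c => c.2)
    rw [hact, Category.assoc, ← he₀, ← Spec.map_comp, hinv, Spec.map_comp, ← Category.assoc,
      hR.lift_fst]

end Act

end Groth.Pi1Desc
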