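import Groth.Agent.Pi1Desc.FiniteFlat
import Mathlib.AlgebraicGeometry.AlgClosed.Basic
import Mathlib.FieldTheory.IsAlgClosed.AlgebraicClosure

/-!
# Classes of a descent datum along a finite morphism with bounded geometric fibres
-/

universe u

set_option autoImplicit false
set_option backward.isDefEq.respectTransparency false

open CategoryTheory Limits AlgebraicGeometry TopologicalSpace

namespace Groth.Pi1Desc.Act

variable {V X S : Scheme.{u}} {h : V ⟶ X} {p : X ⟶ S} (A : Act h p) [IsFinite p]

theorem encard_class_le (d : ℕ) (hfib : ∀ (k : Type u) [Field k] [IsAlgClosed k]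
      (y : Spec (CommRingCat.of k) ⟶ S), Set.encard {x : Spec (CommRingCat.of k) ⟶ X | x ≫ p = y} ≤ d)
    (v₀ : V) : Set.encard (A.σ '' (A.d₁ ⁻¹' {v₀})) ≤ d := by
  let k := AlgebraicClosure (V.residueField v₀)
  let g : Spec (CommRingCat.of k) ⟶ V :=
    Spec.map (CommRingCat.ofHom (algebraMap (V.residueField v₀) k)) ≫ V.fromSpecResidueField v₀
  have hg : ∀ a, g a = v₀ := fun a => by
    rw [Scheme.Hom.comp_apply]; exact Scheme.fromSpecResidueField_apply _ _
  let F := A.d₁ ⁻¹' {v₀}
  refine (Set.encard_image_le _ _).trans ((?_ : F.encard ≤ _).trans (hfib k (g ≫ h ≫ p)))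
  let π := pullback.snd A.d₁ g
  haveI : IsFinite π := MorphismProperty.pullback_snd _ _ inferInstance
  haveI : IsLocallyArtinian (pullback A.d₁ g) := IsLocallyArtinian.of_locallyQuasiFinite π
  have hcl : ∀ z : (pullback A.d₁ g : Scheme.{u}), IsClosed ({z} : Set (pullback A.d₁ g : Scheme.{u})) :=
    fun z => isClosed_discrete _
  have hex : ∀ r : F, ∃ x : Spec (CommRingCat.of k) ⟶ X, ∃ e : g ≫ h ≫ p = x ≫ p,
      ∀ a, pullback.lift g x e a = r.1 := by
    rintro ⟨r, hr : A.d₁ r = v₀⟩
    obtain ⟨z, hz, -⟩ := Scheme.Pullback.exists_preimage_pullback (f := A.d₁) (g := g) r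
      (IsLocalRing.closedPoint k) (hr.trans (hg _).symm)
    let c := pointOfClosedPoint π z (hcl z) ≫ pullback.fst A.d₁ g
    have hc1 : c ≫ A.d₁ = g := by
      simp only [c, Category.assoc, pullback.condition]
      exact pointOfClosedPoint_comp_assoc π z (hcl z) g
    have hc0 : ∀ a, c a = r := fun a => by
      rw [Scheme.Hom.comp_apply, pointOfClosedPoint_apply, hz]
    refine ⟨c ≫ pullback.snd (h ≫ p) p, ?_, fun a => ?_⟩
    · rw [← hc1, Category.assoc, Category.assoc]
      exact congrArg (c ≫ ·) pullback.condition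
    · refine (congrArg (fun f : Spec (CommRingCat.of k) ⟶ _ => f a) ?_).trans (hc0 a)
      apply pullback.hom_ext
      · rw [pullback.lift_fst]; exact hc1.symm
      · rw [pullback.lift_snd]
  choose x hx hxr using hex
  calc F.encard = (Set.univ : Set F).encard := by rw [Set.encard_univ]; rfl
    _ = (x '' Set.univ).encard := ((Function.Injective.injOn (f := x) (fun r r' e => Subtype.ext (by
        rw [← hxr r (IsLocalRing.closedPoint k), ← hxr r' (IsLocalRing.closedPoint k)]
        congr 2
        simp only [e]))).encard_image).symm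
    _ ≤ _ := Set.encard_mono (by
        rintro _ ⟨r, -, rfl⟩
        exact (hx r).symm)

end Groth.Pi1Desc.Act
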