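import Groth.Agent.Pi1Desc.Affine
import Mathlib.AlgebraicGeometry.Morphisms.FinitePresentation
import Mathlib.AlgebraicGeometry.Morphisms.Affine
import Mathlib.AlgebraicGeometry.Morphisms.Etale

/-!
# Effective descent for affine morphisms
-/

universe u

set_option autoImplicit false
set_option backward.isDefEq.respectTransparency false

open CategoryTheory Limits AlgebraicGeometry TopologicalSpace

namespace Groth.Pi1Desc.Act

variable {V X S V' X' S' : Scheme.{u}} {h : V ⟶ X} {p : X ⟶ S} {h' : V' ⟶ X'} {p' : X' ⟶ S'}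
  {w : V' ⟶ V} {f : X' ⟶ X} {s : S' ⟶ S}

theorem pullback_cond (pb : IsPullback w h' h f) (hs : p' ≫ s = f ≫ p) {T : Scheme.{u}} {v : T ⟶ V'}
    {x : T ⟶ X'} (e : v ≫ h' ≫ p' = x ≫ p') : (v ≫ w) ≫ h ≫ p = (x ≫ f) ≫ p := by
  rw [Category.assoc, reassoc_of% pb.w, ← hs, reassoc_of% e, Category.assoc, hs]

/-- The pulled back action. -/
noncomputable def pullbackAct (A : Act h p) (pb : IsPullback w h' h f) (hs : p' ≫ s = f ≫ p) : Act h' p' where
  act v x e := pb.lift (A.act (v ≫ w) (x ≫ f) (pullback_cond pb hs e)) x (A.act_hom _ _ _)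
  act_hom v x e := pb.lift_snd _ _ _
  act_self v x e hx := by
    apply pb.hom_ext
    · rw [pb.lift_fst]
      exact A.act_self _ _ _ (by rw [Category.assoc, pb.w, reassoc_of% hx])
    · rw [pb.lift_snd, hx]
  act_act v x y e e' e'' := by
    apply pb.hom_ext
    · refine (pb.lift_fst _ _ _).trans (Eq.trans ?_ (pb.lift_fst _ _ _).symm)
      refine (A.congr (pb.lift_fst _ _ _) rfl _ ?_).trans (A.act_act _ _ _ _ (pullback_cond pb hs e') _)
      rw [A.act_hom_assoc, ← pullback_cond pb hs e, pullback_cond pb hs e']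
    · rw [pb.lift_snd, pb.lift_snd]
  act_comp g v x e e' := by
    apply pb.hom_ext
    · refine (pb.lift_fst _ _ _).trans ?_
      conv_rhs => rw [Category.assoc, pb.lift_fst, A.comp_act]
      exact A.congr (Category.assoc _ _ _) (Category.assoc _ _ _) _ _
    · rw [pb.lift_snd, Category.assoc, pb.lift_snd]

theorem pullbackAct_w (A : Act h p) (pb : IsPullback w h' h f) (hs : p' ≫ s = f ≫ p) {T : Scheme.{u}}
    (v : T ⟶ V') (x : T ⟶ X') (e : v ≫ h' ≫ p' = x ≫ p') :
    (A.pullbackAct pb hs).act v x e ≫ w = A.act (v ≫ w) (x ≫ f) (pullback_cond pb hs e) :=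
  pb.lift_fst _ _ _

/-- Transfer along isomorphisms. -/
theorem eff_of_iso (A : Act h p) (pb : IsPullback w h' h f) (hs : p' ≫ s = f ≫ p) [IsIso f] [IsIso s]
    (hE : (A.pullbackAct pb hs).Eff) : A.Eff := by
  obtain ⟨U, π, q, hpb, hcompat⟩ := hE
  haveI : IsIso w := by rw [← pb.isoPullback_hom_fst]; infer_instance
  refine ⟨U, π ≫ s, inv w ≫ q, ?_, fun T v x e => ?_⟩
  · refine hpb.of_iso (asIso w) (Iso.refl _) (asIso f) (asIso s) (by simp) ?_ (by simp) ?_
    · simp [pb.w]
    · simpa using hs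
  · have e' : (v ≫ inv w) ≫ h' ≫ p' = (x ≫ inv f) ≫ p' := by
      rw [← cancel_mono s]
      simp only [Category.assoc, hs, IsIso.inv_hom_id_assoc]
      rw [← reassoc_of% pb.w, IsIso.inv_hom_id_assoc, e]
    have key := hcompat T (v ≫ inv w) (x ≫ inv f) e'
    have h1 : (A.pullbackAct pb hs).act (v ≫ inv w) (x ≫ inv f) e' = A.act v x e ≫ inv w := by
      rw [← cancel_mono w, pullbackAct_w]
      simp
    rw [h1] at key
    simpa using key

theorem eff_of_isAffine [IsAffine V] [IsAffine X] [IsAffine S] [Flat p] (A : Act h p) : A.Eff := by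
  let aA := (p.appTop).hom
  letI : Algebra Γ(S, ⊤) Γ(X, ⊤) := aA.toAlgebra
  letI : Algebra Γ(S, ⊤) Γ(V, ⊤) := (h.appTop.hom.comp aA).toAlgebra
  haveI : Module.Flat Γ(S, ⊤) Γ(X, ⊤) := (HasRingHomProperty.iff_of_isAffine (P := @Flat) (f := p)).1 inferInstance
  let φ : Γ(X, ⊤) →ₐ[Γ(S, ⊤)] Γ(V, ⊤) := AlgHom.mk h.appTop.hom fun _ => rfl
  have pb : IsPullback V.isoSpec.inv (Spec.map (CommRingCat.ofHom φ.toRingHom)) h X.isoSpec.inv :=
    IsPullback.of_horiz_isIso ⟨(Scheme.isoSpec_inv_naturality h).symm⟩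
  have hs : Spec.map (CommRingCat.ofHom (algebraMap Γ(S, ⊤) Γ(X, ⊤))) ≫ S.isoSpec.inv = X.isoSpec.inv ≫ p :=
    Scheme.isoSpec_inv_naturality p
  exact A.eff_of_iso pb hs (eff_of_spec φ _)

/-- Descent of effectiveness along an fppf cover. -/
theorem eff_of_cover_source (A : Act h p) (pb : IsPullback w h' h f) [Flat f] [Surjective f]
    [LocallyOfFinitePresentation f]
    (hE : (A.pullbackAct (p' := f ≫ p) (s := 𝟙 S) pb (Category.comp_id _)).Eff) : A.Eff := by
  obtain ⟨U, π, q', hpb, hcompat⟩ := hE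
  haveI : Flat w := MorphismProperty.of_isPullback pb.flip ‹Flat f›
  haveI : Surjective w := MorphismProperty.of_isPullback pb.flip ‹Surjective f›
  haveI : LocallyOfFinitePresentation w := MorphismProperty.of_isPullback pb.flip ‹LocallyOfFinitePresentation f›
  have hcond : ∀ {T : Scheme.{u}} (a b : T ⟶ V'), a ≫ q' = b ≫ q' → a ≫ h' ≫ f ≫ p = (b ≫ h') ≫ f ≫ p := by
    intro T a b hab
    simp only [Category.assoc]
    rw [← hpb.w, reassoc_of% hab]
  have hq : ∀ {T : Scheme.{u}} (a b : T ⟶ V'), a ≫ w = b ≫ w → a ≫ q' = b ≫ q' := fun {T} a b hab => by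
    have e : a ≫ h' ≫ f ≫ p = (b ≫ h') ≫ f ≫ p := by
      rw [← reassoc_of% pb.w, reassoc_of% hab, Category.assoc, reassoc_of% pb.w]
    have hb : (A.pullbackAct (p' := f ≫ p) (s := 𝟙 S) pb (Category.comp_id _)).act a (b ≫ h') e = b := by
      apply pb.hom_ext
      · rw [pullbackAct_w, A.act_self _ _ _ (by rw [hab, Category.assoc, pb.w, Category.assoc]), hab]
      · exact pb.lift_snd _ _ _
    rw [← hcompat T a (b ≫ h') e, hb]
  let q := EffectiveEpi.desc w q' fun {T} a b hab => hq a b hab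
  have hwq : w ≫ q = q' := EffectiveEpi.fac _ _ _
  have hqπ : q ≫ π = h ≫ p := by rw [← cancel_epi w, reassoc_of% hwq, hpb.w, reassoc_of% pb.w]
  refine ⟨U, π, q, ?_, fun T v x e => ?_⟩
  · let c : V ⟶ pullback π p := pullback.lift q h hqπ
    let c' := hpb.isoPullback
    let m : pullback π (f ≫ p) ⟶ pullback π p :=
      pullback.map _ _ _ _ (𝟙 U) f (𝟙 S) (by simp) (by simp)
    have sqm : IsPullback (pullback.snd π (f ≫ p)) m f (pullback.snd π p) := by
      refine IsPullback.of_bot ?_ (pullback.lift_snd _ _ _).symm (IsPullback.of_hasPullback π p).flip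
      rw [pullback.lift_fst, Category.comp_id]
      exact (IsPullback.of_hasPullback _ _).flip
    haveI : Flat m := MorphismProperty.of_isPullback sqm ‹Flat f›
    haveI : Surjective m := MorphismProperty.of_isPullback sqm ‹Surjective f›
    haveI : LocallyOfFinitePresentation m := MorphismProperty.of_isPullback sqm ‹LocallyOfFinitePresentation f›
    have hwc : c'.inv ≫ w ≫ c = m := by
      rw [Iso.inv_comp_eq]
      apply pullback.hom_ext
      · simp only [Category.assoc, c, m, c', pullback.lift_fst, hwq, Category.comp_id, IsPullback.isoPullback_hom_fst]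
      · simp only [Category.assoc, c, m, c', pullback.lift_snd, pb.w, IsPullback.isoPullback_hom_snd_assoc]
    let r := EffectiveEpi.desc m (c'.inv ≫ w) fun {T} a b hab => by
      have hU := congrArg (· ≫ pullback.fst π p) hab
      have hX := congrArg (· ≫ pullback.snd π p) hab
      simp only [Category.assoc, m, pullback.lift_fst, pullback.lift_snd, Category.comp_id] at hU hX
      let a' := a ≫ c'.inv
      let b' := b ≫ c'.inv
      have hq' : a' ≫ q' = b' ≫ q' := by
        simp only [a', b', c', Category.assoc, IsPullback.isoPullback_inv_fst, hU]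
      have hfx : (b' ≫ h') ≫ f = (a' ≫ w) ≫ h := by
        simp only [a', b', c', Category.assoc, pb.w, IsPullback.isoPullback_inv_snd_assoc, hX]
      have e := hcond a' b' hq'
      have hb : (A.pullbackAct (p' := f ≫ p) (s := 𝟙 S) pb (Category.comp_id _)).act a' (b' ≫ h') e = b' := by
        apply hpb.hom_ext
        · rw [hcompat]; exact hq'
        · exact pb.lift_snd _ _ _
      have := congrArg (· ≫ w) hb
      simp only [pullbackAct_w] at this
      rw [A.act_self _ _ _ hfx.symm] at this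
      simpa [a', b'] using this
    have hmr : m ≫ r = c'.inv ≫ w := EffectiveEpi.fac _ _ _
    haveI : IsIso c := ⟨r, by
      rw [← cancel_epi w, ← cancel_epi c'.inv, reassoc_of% hwc, hmr, Category.comp_id], by
      rw [← cancel_epi m, reassoc_of% hmr, hwc, Category.comp_id]⟩
    exact IsPullback.of_iso_pullback ⟨hqπ⟩ (asIso c) (pullback.lift_fst _ _ _) (pullback.lift_snd _ _ _)
  · let g₁ := pullback.fst (v ≫ h) f
    let g₂ := pullback.fst (g₁ ≫ x) f
    haveI : Flat g₁ := MorphismProperty.pullback_fst _ _ ‹Flat f›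
    haveI : Surjective g₁ := MorphismProperty.pullback_fst _ _ ‹Surjective f›
    haveI : LocallyOfFinitePresentation g₁ := MorphismProperty.pullback_fst _ _ ‹LocallyOfFinitePresentation f›
    haveI : Flat g₂ := MorphismProperty.pullback_fst _ _ ‹Flat f›
    haveI : Surjective g₂ := MorphismProperty.pullback_fst _ _ ‹Surjective f›
    haveI : LocallyOfFinitePresentation g₂ := MorphismProperty.pullback_fst _ _ ‹LocallyOfFinitePresentation f›
    rw [← cancel_epi g₁, ← cancel_epi g₂]
    let v' := pb.lift (g₂ ≫ g₁ ≫ v) (g₂ ≫ pullback.snd (v ≫ h) f) (by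
      simp only [g₁, g₂, Category.assoc, pullback.condition])
    let x' := pullback.snd (g₁ ≫ x) f
    have hx' : x' ≫ f = g₂ ≫ g₁ ≫ x := pullback.condition.symm
    have hv' : v' ≫ w = g₂ ≫ g₁ ≫ v := pb.lift_fst _ _ _
    have e' : v' ≫ h' ≫ f ≫ p = x' ≫ f ≫ p := by
      rw [← reassoc_of% pb.w, reassoc_of% hv', reassoc_of% hx', e]
    have key := hcompat _ v' x' e'
    rw [← hwq, ← Category.assoc, ← Category.assoc, pullbackAct_w] at key
    rw [← Category.assoc g₁ (A.act v x e), A.comp_act g₁ v x e, ← Category.assoc g₂, A.comp_act]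
    exact (congrArg (· ≫ q) (A.congr hv'.symm hx'.symm _ _)).trans
      (key.trans (by rw [hv']; simp only [Category.assoc]))

theorem eff_of_isAffineHom_of_isAffine [IsAffineHom h] [IsAffine S] [Flat p] [QuasiCompact p] (A : Act h p) :
    A.Eff := by
  haveI : CompactSpace X := QuasiCompact.compactSpace_of_compactSpace p
  obtain ⟨X', f, _, hf, haff⟩ := Scheme.exists_hom_isAffine_of_isZariskiLocalAtSource (P := @IsLocalIso) X
  haveI := haff
  haveI : IsLocalIso f := hf
  haveI : Etale f := IsLocalIso.le_of_isZariskiLocalAtSource @Etale _ _ f hf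
  haveI : IsAffineHom (pullback.snd h f) := MorphismProperty.pullback_snd _ _ ‹IsAffineHom h›
  haveI : IsAffine (pullback h f) := isAffine_of_isAffineHom (pullback.snd h f)
  exact A.eff_of_cover_source (IsPullback.of_hasPullback h f) (eff_of_isAffine _)

theorem effOn_preimage (A : Act h p) {O : S.Opens}
    (hE : (A.pullbackAct (isPullback_morphismRestrict h (p ⁻¹ᵁ O)).flip (morphismRestrict_ι p O)).Eff) :
    A.EffOn ((h ≫ p) ⁻¹ᵁ O) := by
  obtain ⟨U, π, q, hpb, hcompat⟩ := hE
  refine ⟨U, π ≫ O.ι, q, ⟨?_, fun T w₀ w₁ e he => ?_⟩⟩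
  · have := hpb.paste_vert (isPullback_morphismRestrict p O)
    rw [morphismRestrict_ι] at this
    exact this
  · let pb := (isPullback_morphismRestrict h (p ⁻¹ᵁ O)).flip
    have e' : w₀ ≫ (h ∣_ (p ⁻¹ᵁ O)) ≫ (p ∣_ O) = (w₁ ≫ (h ∣_ (p ⁻¹ᵁ O))) ≫ (p ∣_ O) := by
      rw [← cancel_mono O.ι]
      simp only [Category.assoc, morphismRestrict_ι, morphismRestrict_ι_assoc]
      simpa using e
    rw [← hcompat T w₀ _ e']
    congr 1
    apply pb.hom_ext
    · rw [pullbackAct_w]
      refine he.symm.trans (A.congr rfl ?_ _ _)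
      rw [Category.assoc, morphismRestrict_ι]; rfl
    · exact (pb.lift_snd _ _ _).symm

/-- Descent is effective for affine morphisms. -/
theorem eff_of_isAffineHom [IsAffineHom h] [Flat p] [Surjective p] [QuasiCompact p] (A : Act h p) : A.Eff := by
  refine eff_of_cover fun x => ?_
  obtain ⟨_, ⟨O, hO, rfl⟩, hxO, -⟩ :=
    S.isBasis_affineOpens.exists_subset_of_mem_open (Set.mem_univ ((h ≫ p) x)) isOpen_univ
  haveI : IsAffine (Scheme.Opens.toScheme O) := hO
  haveI : IsAffineHom (h ∣_ (p ⁻¹ᵁ O)) := MorphismProperty.of_isPullback (isPullback_morphismRestrict h (p ⁻¹ᵁ O)).flip ‹_›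
  haveI : Flat (p ∣_ O) := IsZariskiLocalAtTarget.restrict ‹_› O
  haveI : QuasiCompact (p ∣_ O) := IsZariskiLocalAtTarget.restrict ‹_› O
  exact ⟨_, hxO, A.stable_preimage O, A.effOn_preimage (eff_of_isAffineHom_of_isAffine _)⟩

end Groth.Pi1Desc.Act
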