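import Groth.Agent.Pi1Desc.Act
import Mathlib.AlgebraicGeometry.Gluing

/-!
# Gluing quotients along stable opens
-/

universe u

set_option autoImplicit false
set_option backward.isDefEq.respectTransparency false

open CategoryTheory Limits AlgebraicGeometry TopologicalSpace

namespace Groth.Pi1Desc.Act

variable {V X S : Scheme.{u}} {h : V ⟶ X} {p : X ⟶ S}

/-- Stable opens on which the datum descends. -/
abbrev Piece (A : Act h p) : Type u := {W : V.Opens // A.Stable W ∧ A.EffOn W}

variable {A : Act h p} (i j k : Piece A)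

/-- The quotient of a piece. -/
noncomputable def obj : Scheme.{u} := i.2.2.choose

/-- Its structure map. -/
noncomputable def str : obj i ⟶ S := i.2.2.choose_spec.choose

/-- The projection to the quotient of a piece. -/
noncomputable def proj : i.1.toScheme ⟶ obj i := i.2.2.choose_spec.choose_spec.choose

theorem isQuot_proj : A.IsQuot i.1 (proj i) (str i) := i.2.2.choose_spec.choose_spec.choose_spec

variable [IsCover p] {i j k}

theorem exists_trans (hij : i ≤ j) : ∃ t : obj i ⟶ obj j, proj i ≫ t = V.homOfLE hij ≫ proj j :=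
  (isQuot_proj i).exists_desc i.2.1 _ fun T w w' e he => by
    rw [← Category.assoc, ← Category.assoc]
    exact (isQuot_proj j).compat T (w ≫ V.homOfLE hij) (w' ≫ V.homOfLE hij)
      (by simpa using e) (by simpa using he)

/-- Transition maps. -/
noncomputable def trans (hij : i ≤ j) : obj i ⟶ obj j := (exists_trans hij).choose

theorem proj_trans (hij : i ≤ j) : proj i ≫ trans hij = V.homOfLE hij ≫ proj j :=
  (exists_trans hij).choose_spec

theorem trans_unique (hij : i ≤ j) {t : obj i ⟶ obj j} (ht : proj i ≫ t = V.homOfLE hij ≫ proj j) :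
    t = trans hij :=
  (isQuot_proj i).hom_ext (ht.trans (proj_trans hij).symm)

theorem trans_str (hij : i ≤ j) : trans hij ≫ str j = str i :=
  (isQuot_proj i).hom_ext <| by
    rw [reassoc_of% (proj_trans hij), (isQuot_proj j).isPullback.w, (isQuot_proj i).isPullback.w,
      Category.assoc, Category.assoc, Scheme.homOfLE_ι_assoc]

theorem isOpenImmersion_trans (hij : i ≤ j) : IsOpenImmersion (trans hij) := by
  obtain ⟨O, q₁, hq₁, hQ⟩ := (isQuot_proj j).restrict j.2.1 i.2.1 hij
  obtain ⟨a, ha⟩ := (isQuot_proj i).exists_desc i.2.1 q₁ fun T w w' e he => hQ.compat T w w' e he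
  obtain ⟨b, hb⟩ := hQ.exists_desc i.2.1 (proj i) fun T w w' e he => (isQuot_proj i).compat T w w' e he
  haveI : IsIso a := ⟨b, (isQuot_proj i).hom_ext (by rw [reassoc_of% ha, hb, Category.comp_id]),
    hQ.hom_ext (by rw [reassoc_of% hb, ha, Category.comp_id])⟩
  rw [← trans_unique hij (t := a ≫ O.ι) (by rw [reassoc_of% ha, hq₁])]
  infer_instance

theorem proj_surjective (i : Piece A) : Function.Surjective (proj i) :=
  (isQuot_proj i).surjective.surj

variable (A) in
/-- The diagram of quotients. -/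
noncomputable def diagram : Piece A ⥤ Scheme.{u} where
  obj i := Act.obj i
  map f := trans (leOfHom f)
  map_id i := (trans_unique _ (by rw [Category.comp_id, Scheme.homOfLE_rfl, Category.id_comp])).symm
  map_comp {i j k} f g := (trans_unique _ (by
    rw [reassoc_of% (proj_trans (leOfHom f)), proj_trans, Scheme.homOfLE_homOfLE_assoc])).symm

instance {i j : Piece A} (f : i ⟶ j) : IsOpenImmersion ((diagram A).map f) := isOpenImmersion_trans _

theorem trans_injective (hij : i ≤ j) : Function.Injective (trans hij) := by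
  haveI := isOpenImmersion_trans hij
  exact (trans hij).isOpenEmbedding.injective

/-- Intersections of pieces. -/
def inter (i j : Piece A) : Piece A :=
  ⟨i.1 ⊓ j.1, i.2.1.inf j.2.1, i.2.2.of_le i.2.1 (i.2.1.inf j.2.1) inf_le_left⟩

theorem inter_le_left (i j : Piece A) : inter i j ≤ i := show i.1 ⊓ j.1 ≤ i.1 from inf_le_left

theorem inter_le_right (i j : Piece A) : inter i j ≤ j := show i.1 ⊓ j.1 ≤ j.1 from inf_le_right

theorem trans_proj_apply (hij : i ≤ j) (w : i.1.toScheme) : trans hij (proj i w) = proj j (V.homOfLE hij w) := by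
  rw [← Scheme.Hom.comp_apply, proj_trans, Scheme.Hom.comp_apply]

theorem ι_homOfLE {W W' : V.Opens} (hle : W ≤ W') (w : W.toScheme) : W'.ι (V.homOfLE hle w) = W.ι w := by
  rw [← Scheme.Hom.comp_apply, Scheme.homOfLE_ι]

theorem isLocallyDirected : (diagram A ⋙ Scheme.forget).IsLocallyDirected := by
  constructor
  intro i j k fi fj yi yj hy
  obtain ⟨a, rfl⟩ := proj_surjective i yi
  obtain ⟨b, rfl⟩ := proj_surjective j yj
  have hik : i ≤ k := leOfHom fi
  have hjk : j ≤ k := leOfHom fj
  have hy' : trans hik (proj i a) = trans hjk (proj j b) := hy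
  rw [trans_proj_apply, trans_proj_apply] at hy'
  have hbi : j.1.ι b ∈ i.1 := by
    rw [← ι_homOfLE hjk b]
    exact (isQuot_proj k).saturated k.2.1 i.2.1 hy' (by rw [ι_homOfLE]; exact a.2)
  let c : (inter i j).1.toScheme := ⟨j.1.ι b, hbi, b.2⟩
  have hc : trans (inter_le_right i j) (proj (inter i j) c) = proj j b := by
    rw [trans_proj_apply]
    congr 1
    apply j.1.ι.isOpenEmbedding.injective
    rw [ι_homOfLE]; rfl
  refine ⟨inter i j, homOfLE (inter_le_left i j), homOfLE (inter_le_right i j), proj (inter i j) c, ?_, hc⟩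
  change trans (inter_le_left i j) (proj (inter i j) c) = proj i a
  apply trans_injective hik
  have key : ∀ z, trans hik (trans (inter_le_left i j) z) = trans hjk (trans (inter_le_right i j) z) := fun z => by
    have e1 : trans (inter_le_left i j) ≫ trans hik = trans ((inter_le_left i j).trans hik) :=
      trans_unique _ (by rw [reassoc_of% (proj_trans (inter_le_left i j)), proj_trans, Scheme.homOfLE_homOfLE_assoc])
    have e2 : trans (inter_le_right i j) ≫ trans hjk = trans ((inter_le_left i j).trans hik) :=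
      trans_unique _ (by rw [reassoc_of% (proj_trans (inter_le_right i j)), proj_trans, Scheme.homOfLE_homOfLE_assoc])
    rw [← Scheme.Hom.comp_apply, ← Scheme.Hom.comp_apply, e1, e2]
  rw [key, hc, trans_proj_apply, trans_proj_apply]
  exact hy'.symm

/-- A datum that descends on the members of a cover by stable opens descends. -/
theorem eff_of_cover (H : ∀ x : V, ∃ W : V.Opens, x ∈ W ∧ A.Stable W ∧ A.EffOn W) : A.Eff := by
  haveI := isLocallyDirected (A := A)
  let D := diagram A
  let Y := colimit D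
  let ιY : ∀ i : Piece A, obj i ⟶ Y := fun i => colimit.ι D i
  haveI : ∀ i, IsOpenImmersion (ιY i) := fun i => inferInstanceAs (IsOpenImmersion (colimit.ι D i))
  have hw : ∀ {l i : Piece A} (hli : l ≤ i), trans hli ≫ ιY i = ιY l := fun hli => colimit.w D (homOfLE hli)
  have hsup : ⨆ i : Piece A, i.1 = ⊤ := eq_top_iff.2 fun x _ => by
    obtain ⟨W, hxW, hW⟩ := H x
    exact Opens.mem_iSup.2 ⟨⟨W, hW⟩, hxW⟩
  let 𝒰 : V.OpenCover := V.openCoverOfIsOpenCover (fun i : Piece A => i.1) hsup
  have hag : ∀ i j : Piece A, pullback.fst i.1.ι j.1.ι ≫ proj i ≫ ιY i =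
      pullback.snd i.1.ι j.1.ι ≫ proj j ≫ ιY j := by
    intro i j
    have hr : Set.range (pullback.fst i.1.ι j.1.ι ≫ i.1.ι) ⊆ Set.range (inter i j).1.ι := by
      rintro _ ⟨t, rfl⟩
      rw [Scheme.Opens.range_ι]
      refine ⟨(pullback.fst i.1.ι j.1.ι t).2, ?_⟩
      rw [pullback.condition]
      exact (pullback.snd i.1.ι j.1.ι t).2
    let r := IsOpenImmersion.lift (inter i j).1.ι _ hr
    have hr' : r ≫ (inter i j).1.ι = _ := IsOpenImmersion.lift_fac _ _ _
    have e1 : pullback.fst i.1.ι j.1.ι = r ≫ V.homOfLE (inter_le_left i j) := by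
      rw [← cancel_mono i.1.ι, Category.assoc, Scheme.homOfLE_ι, hr']
    have e2 : pullback.snd i.1.ι j.1.ι = r ≫ V.homOfLE (inter_le_right i j) := by
      rw [← cancel_mono j.1.ι, Category.assoc, Scheme.homOfLE_ι, hr', pullback.condition]
    rw [e1, e2, Category.assoc, Category.assoc, ← reassoc_of% (proj_trans (inter_le_left i j)),
      ← reassoc_of% (proj_trans (inter_le_right i j)), hw, hw]
  let q : V ⟶ Y := 𝒰.glueMorphisms (fun i => proj i ≫ ιY i) hag
  have hq : ∀ i : Piece A, i.1.ι ≫ q = proj i ≫ ιY i := fun i => 𝒰.ι_glueMorphisms _ hag i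
  have hnat : ∀ {i j : Piece A} (f : i ⟶ j), D.map f ≫ str j = str i ≫ ((Functor.const (Piece A)).obj S).map f := by
    intro i j f
    rw [Functor.const_obj_map, Category.comp_id]
    exact trans_str (leOfHom f)
  let π : Y ⟶ S := colimit.desc D ⟨S, { app := fun i => str i, naturality := fun _ _ f => hnat f }⟩
  have hπ : ∀ i, ιY i ≫ π = str i := fun i => colimit.ι_desc _ i
  have hqπ : q ≫ π = h ≫ p := 𝒰.hom_ext _ _ fun (i : Piece A) => by
    change i.1.ι ≫ q ≫ π = i.1.ι ≫ h ≫ p
    rw [reassoc_of% (hq i), hπ, (isQuot_proj i).isPullback.w, Category.assoc]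
  have hpre : ∀ i, q ⁻¹ᵁ (ιY i).opensRange = i.1 := by
    intro i
    ext x
    constructor
    · rintro ⟨y, hy⟩
      obtain ⟨W, hxW, hW⟩ := H x
      let j : Piece A := ⟨W, hW⟩
      obtain ⟨yi, rfl⟩ := proj_surjective i y
      have e : q x = ιY j (proj j ⟨x, hxW⟩) := by
        rw [← Scheme.Hom.comp_apply, ← hq j]; rfl
      obtain ⟨l, fi, fj, z, hzi, hzj⟩ := (Scheme.IsLocallyDirected.ι_eq_ι_iff D).1
        (show colimit.ι D i (proj i yi) = colimit.ι D j (proj j ⟨x, hxW⟩) from hy.trans e)
      obtain ⟨w, rfl⟩ := proj_surjective l z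
      replace hzj : trans (leOfHom fj) (proj l w) = proj j ⟨x, hxW⟩ := hzj
      rw [trans_proj_apply] at hzj
      exact (isQuot_proj j).saturated j.2.1 i.2.1 hzj (by rw [ι_homOfLE]; exact leOfHom fi w.2)
    · intro hx
      refine ⟨proj i ⟨x, hx⟩, ?_⟩
      rw [← Scheme.Hom.comp_apply, ← hq i]; rfl
  refine ⟨Y, π, q, ?_, fun T v x e => ?_⟩
  · -- the square is cartesian
    let c : V ⟶ pullback π p := pullback.lift q h hqπ
    suffices IsIso c from IsPullback.of_iso_pullback ⟨hqπ⟩ (asIso c) (pullback.lift_fst _ _ _) (pullback.lift_snd _ _ _)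
    have hcov : ⨆ i, pullback.fst π p ⁻¹ᵁ (ιY i).opensRange = ⊤ := eq_top_iff.2 fun z _ => by
      obtain ⟨i, yi, hi⟩ := Scheme.IsLocallyDirected.ι_jointly_surjective D (pullback.fst π p z)
      exact Opens.mem_iSup.2 ⟨i, yi, hi⟩
    refine (IsZariskiLocalAtTarget.iff_of_iSup_eq_top (P := MorphismProperty.isomorphisms Scheme) _ hcov).2 fun i => ?_
    let b : i.1.toScheme ⟶ pullback (ιY i ≫ π) p :=
      pullback.lift (proj i) (i.1.ι ≫ h) (by rw [hπ]; exact (isQuot_proj i).isPullback.w)
    haveI : IsIso b := by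
      have hb : b = ((hπ i).symm ▸ (isQuot_proj i).isPullback : IsPullback (proj i) (i.1.ι ≫ h) (ιY i ≫ π) p).isoPullback.hom := by
        apply pullback.hom_ext <;> simp [b]
      rw [hb]; infer_instance
    let m : pullback (ιY i ≫ π) p ⟶ pullback π p :=
      pullback.map _ _ _ _ (ιY i) (𝟙 _) (𝟙 _) (Category.comp_id _) (by simp)
    have sqm : IsPullback (pullback.fst (ιY i ≫ π) p) m (ιY i) (pullback.fst π p) := by
      refine IsPullback.of_bot ?_ (pullback.lift_fst _ _ _).symm (IsPullback.of_hasPullback π p)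
      rw [pullback.lift_snd, Category.comp_id]
      exact IsPullback.of_hasPullback _ _
    haveI : IsOpenImmersion m := MorphismProperty.of_isPullback sqm inferInstance
    have hrange : m.opensRange = pullback.fst π p ⁻¹ᵁ (ιY i).opensRange :=
      by simpa [Scheme.Hom.image_top_eq_opensRange] using
        IsOpenImmersion.image_preimage_eq_preimage_image_of_isPullback sqm ⊤
    have sqc : IsPullback b i.1.ι m c := IsOpenImmersion.isPullback _ _ _ _ (by
      apply pullback.hom_ext
      · simp only [Category.assoc, b, c, m, pullback.lift_fst, pullback.lift_fst_assoc, hq]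
      · simp only [Category.assoc, b, c, m, pullback.lift_snd, pullback.lift_snd_assoc, Category.comp_id]) (by
      rw [hrange, ← Scheme.Hom.comp_preimage, pullback.lift_fst, hpre, Scheme.Opens.opensRange_ι])
    rw [← hrange]
    exact ((MorphismProperty.isomorphisms Scheme).arrow_mk_iso_iff (morphismRestrictOpensRange c m)).2
      (sqc.flip.isoPullback_hom_snd ▸ (inferInstance : IsIso b) |> fun hb => by
        have : pullback.snd c m = sqc.flip.isoPullback.inv ≫ b := sqc.flip.isoPullback_inv_snd.symm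
        change IsIso (pullback.snd c m)
        rw [this]; infer_instance)
  · refine (T.openCoverOfIsOpenCover (fun i : Piece A => v ⁻¹ᵁ i.1) ?_).hom_ext _ _ fun (i : Piece A) => ?_
    · rw [IsOpenCover, ← Scheme.Hom.preimage_iSup, hsup, Scheme.Hom.preimage_top]
    let g := (v ⁻¹ᵁ i.1).ι
    change g ≫ A.act v x e ≫ q = g ≫ v ≫ q
    let w : (v ⁻¹ᵁ i.1).toScheme ⟶ i.1.toScheme := v ∣_ i.1
    have hw' : w ≫ i.1.ι = g ≫ v := morphismRestrict_ι v i.1
    have e' : (w ≫ i.1.ι) ≫ h ≫ p = (g ≫ x) ≫ p := by rw [hw', Category.assoc, e, Category.assoc]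
    have hr : Set.range (A.act (w ≫ i.1.ι) (g ≫ x) e') ⊆ Set.range i.1.ι := by
      rintro _ ⟨t, rfl⟩
      rw [Scheme.Opens.range_ι]
      exact i.2.1 _ _ _ e' (fun s => (w s).2) t
    let w' := IsOpenImmersion.lift i.1.ι _ hr
    have hww : w' ≫ i.1.ι = A.act (w ≫ i.1.ι) (g ≫ x) e' := IsOpenImmersion.lift_fac _ _ _
    have hx : w' ≫ i.1.ι ≫ h = g ≫ x := by rw [← Category.assoc, hww, A.act_hom]
    have key := (isQuot_proj i).compat _ w w' (by rw [hx]; exact e') ((A.congr rfl hx _ e').trans hww.symm)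
    have hact : g ≫ A.act v x e = w' ≫ i.1.ι := by
      rw [hww, A.comp_act]
      exact A.congr hw'.symm rfl _ _
    rw [reassoc_of% hact, ← reassoc_of% hw', hq, reassoc_of% key]

end Groth.Pi1Desc.Act
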