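import Groth.Agent.Pi1Desc.Glue

/-!
# Effective sub-data on open subschemes
-/

universe u

set_option autoImplicit false
set_option backward.isDefEq.respectTransparency false

open CategoryTheory Limits AlgebraicGeometry TopologicalSpace

namespace Groth.Pi1Desc

variable {X S : Scheme.{u}} {p : X ⟶ S} {D : Desc.SchDD p}

/-- The image of a morphism of descent data which is an open immersion is stable. -/
theorem stable_opensRange {D' : Desc.SchDD p} (j : D' ⟶ D) [IsOpenImmersion j.hom.left] :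
    (ofDD D).Stable j.hom.left.opensRange := by
  intro T v x e hv t
  let v' := IsOpenImmersion.lift j.hom.left v (by rintro _ ⟨s, rfl⟩; exact hv s)
  have hv' : v' ≫ j.hom.left = v := IsOpenImmersion.lift_fac _ _ _
  have hv'' : v' ≫ D'.obj.hom = v ≫ D.obj.hom := by
    rw [← hv', Category.assoc, Over.w j.hom]
  have := j.comm (v ≫ D.obj.hom) x ((Category.assoc _ _ _).trans e) ⟨v', hv''⟩ ⟨v, rfl⟩ hv'.symm
  change (D.φ (v ≫ D.obj.hom) x ((Category.assoc _ _ _).trans e) ⟨v, rfl⟩).1 t ∈ _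
  rw [this]
  exact ⟨_, rfl⟩

/-- An open subdatum coming from the base descends. -/
theorem effOn_opensRange {U' : Over S} (F : (Desc.toDD p).obj U' ⟶ D) [IsOpenImmersion F.hom.left] :
    (ofDD D).EffOn F.hom.left.opensRange := by
  let W := F.hom.left.opensRange
  let i : pullback p U'.hom ⟶ D.obj.left := F.hom.left
  have hi : i ≫ D.obj.hom = pullback.fst p U'.hom := Over.w F.hom
  haveI : IsOpenImmersion i := ‹_›
  let e : pullback p U'.hom ≅ W.toScheme :=
    IsOpenImmersion.isoOfRangeEq i W.ι (by rw [Scheme.Opens.range_ι]; rfl)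
  have he : e.hom ≫ W.ι = i := IsOpenImmersion.isoOfRangeEq_hom_fac _ _ _
  have he' : e.inv ≫ i = W.ι := IsOpenImmersion.isoOfRangeEq_inv_fac _ _ _
  refine ⟨U'.left, U'.hom, e.inv ≫ pullback.snd p U'.hom, ⟨?_, fun T w w' ew hw => ?_⟩⟩
  · refine (IsPullback.of_hasPullback p U'.hom).flip.of_iso e (Iso.refl _) (Iso.refl _) (Iso.refl _)
      (by simp) ?_ (by simp) (by simp)
    rw [Iso.refl_hom, Category.comp_id, reassoc_of% he, hi]
  · have h0 : (w ≫ e.inv) ≫ pullback.fst p U'.hom = (w ≫ W.ι) ≫ D.obj.hom := by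
      rw [← hi, ← he']; simp only [Category.assoc]
    have h1 : (w' ≫ e.inv) ≫ pullback.fst p U'.hom = w' ≫ W.ι ≫ D.obj.hom := by
      rw [← hi, ← he']; simp only [Category.assoc]
    have hx : ((w ≫ W.ι) ≫ D.obj.hom) ≫ p = (w' ≫ W.ι ≫ D.obj.hom) ≫ p := (Category.assoc _ _ _).trans ew
    have key := F.comm _ _ hx ⟨w ≫ e.inv, h0⟩ ⟨w ≫ W.ι, rfl⟩ (by
      change w ≫ W.ι = (w ≫ e.inv) ≫ i
      rw [Category.assoc, he'])
    have key2 : (w' ≫ e.inv) ≫ i =
        (Desc.canMap p U' ((w ≫ W.ι) ≫ D.obj.hom) (w' ≫ W.ι ≫ D.obj.hom) hx ⟨w ≫ e.inv, h0⟩).1 ≫ i := by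
      rw [Category.assoc, he']
      exact hw.symm.trans key
    have key3 := congrArg (· ≫ pullback.snd p U'.hom) ((cancel_mono i).1 key2)
    simpa using key3

end Groth.Pi1Desc
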