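import Groth.Agent.Pi1Desc.Radicial
import Groth.Agent.FlatMor2.IndQuasiAffine
import Mathlib.AlgebraicGeometry.QuasiAffine
import Mathlib.AlgebraicGeometry.Morphisms.Flat

/-!
# Effective descent for quasi-affine morphisms
-/

universe u

set_option autoImplicit false
set_option backward.isDefEq.respectTransparency false

open CategoryTheory Limits AlgebraicGeometry TopologicalSpace TensorProduct

namespace Groth.Pi1Desc.Act

variable {V X S : Scheme.{u}} {h : V ⟶ X} {p : X ⟶ S}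

theorem isPushout_appTop_of_flat {P Q : Scheme.{u}} {fst : P ⟶ V} {snd : P ⟶ X} {g : V ⟶ Q} {f : X ⟶ Q}
    [IsAffine Q] [IsAffine X] [Flat f] [CompactSpace V] [QuasiSeparatedSpace V]
    (H : IsPullback fst snd g f) : IsPushout g.appTop f.appTop fst.appTop snd.appTop := by
  have h1 := (isIso_pushoutSection_iff H (US := ⊤) (UT := ⊤) (UX := ⊤) (UY := ⊤) le_rfl le_rfl
    (by simp)).1
    (isIso_pushoutSection_of_isQuasiSeparated_of_flat_right H _ _ _ (isAffineOpen_top _) (isAffineOpen_top _)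
      isCompact_univ isQuasiSeparated_univ)
  have e : ∀ {P Q : Scheme.{u}} (g : P ⟶ Q) (hg : (⊤ : P.Opens) ≤ g ⁻¹ᵁ ⊤), g.appLE ⊤ ⊤ hg = g.appTop :=
    fun g _ => Scheme.Hom.appLE_eq_app (f := g) (U := ⊤)
  rwa [e, e, e, e] at h1

theorem eff_of_isQuasiAffine [V.IsQuasiAffine] [IsAffine X] [IsAffine S] [Flat p] [Surjective p]
    (α : Act h p) : α.Eff := by
  let A : CommRingCat := Γ(S, ⊤)
  let B : CommRingCat := Γ(X, ⊤)
  let C : CommRingCat := Γ(V, ⊤)
  letI : Algebra A B := p.appTop.hom.toAlgebra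
  letI : Algebra A C := (h.appTop.hom.comp p.appTop.hom).toAlgebra
  haveI : Module.Flat A B := (HasRingHomProperty.iff_of_isAffine (P := @Flat) (f := p)).1 inferInstance
  let φ : B →ₐ[A] C := AlgHom.mk h.appTop.hom fun _ => rfl
  let R := pullback (h ≫ p) p
  let d₁ : R ⟶ V := pullback.fst (h ≫ p) p
  let d₂ : R ⟶ X := pullback.snd (h ≫ p) p
  haveI : IsAffineHom d₁ := MorphismProperty.pullback_fst _ _ (inferInstance : IsAffineHom p)
  haveI : R.IsQuasiAffine := .of_isAffineHom d₁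
  let σ : R ⟶ V := α.act d₁ d₂ pullback.condition
  let iL : C ⟶ CommRingCat.of (C ⊗[A] B) := CommRingCat.ofHom Algebra.TensorProduct.includeLeftRingHom
  let iR : B ⟶ CommRingCat.of (C ⊗[A] B) :=
    CommRingCat.ofHom (Algebra.TensorProduct.includeRight (R := A) (A := C) (B := B)).toRingHom
  have hT : IsPushout (h ≫ p).appTop p.appTop iL iR := CommRingCat.isPushout_tensorProduct A C B
  have hR : IsPullback d₁ d₂ (h ≫ p) p := IsPullback.of_hasPullback _ _
  let κ := hT.isoIsPushout _ _ (isPushout_appTop_of_flat hR)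
  have κL : iL ≫ κ.hom = d₁.appTop := hT.inl_isoIsPushout_hom _ _ _
  have κR : iR ≫ κ.hom = d₂.appTop := hT.inr_isoIsPushout_hom _ _ _
  obtain ⟨e₀, eκ⟩ : ∃ e₀ : C ⟶ CommRingCat.of (C ⊗[A] B), e₀ ≫ κ.hom = σ.appTop :=
    ⟨σ.appTop ≫ κ.inv, by rw [Category.assoc, Iso.inv_hom_id, Category.comp_id]⟩
  have hφe : h.appTop ≫ e₀ = iR := by
    rw [← cancel_mono κ.hom, Category.assoc, eκ, κR, ← Scheme.Hom.comp_appTop, α.act_hom]
  have hA : (h ≫ p).appTop ≫ e₀ = (h ≫ p).appTop ≫ iL := by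
    rw [hT.w, Scheme.Hom.comp_appTop, Category.assoc, hφe]
  let e : C →ₐ[A] C ⊗[A] B := { e₀.hom with
    commutes' := fun r => (RingHom.congr_fun (congrArg CommRingCat.Hom.hom hA) r : _) }
  have hφ : ∀ b, e (φ b) = 1 ⊗ₜ b := fun b => RingHom.congr_fun (congrArg CommRingCat.Hom.hom hφe) b
  have hε : ∀ c, Algebra.TensorProduct.lift (AlgHom.id A C) φ (fun _ _ => Commute.all _ _) (e c) = c := by
    let ε : CommRingCat.of (C ⊗[A] B) ⟶ C :=
      CommRingCat.ofHom (Algebra.TensorProduct.lift (AlgHom.id A C) φ fun _ _ => Commute.all _ _).toRingHom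
    let E : V ⟶ R := pullback.lift (𝟙 V) h (Category.id_comp _)
    have hE : κ.hom ≫ E.appTop = ε := by
      apply hT.hom_ext
      · rw [reassoc_of% κL, ← Scheme.Hom.comp_appTop, pullback.lift_fst, Scheme.Hom.id_appTop]
        exact CommRingCat.hom_ext (RingHom.ext fun c => ((Algebra.TensorProduct.lift_tmul (AlgHom.id A C) φ
          (fun _ _ => Commute.all _ _) c (1 : B)).trans (by simp)).symm)
      · rw [reassoc_of% κR, ← Scheme.Hom.comp_appTop, pullback.lift_snd]
        exact CommRingCat.hom_ext (RingHom.ext fun b => ((Algebra.TensorProduct.lift_tmul (AlgHom.id A C) φ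
          (fun _ _ => Commute.all _ _) (1 : C) b).trans (by simp [φ]; rfl)).symm)
    have : e₀ ≫ ε = 𝟙 _ := by
      have hσ : E ≫ σ = 𝟙 V := by
        rw [α.comp_act]
        refine (α.congr (pullback.lift_fst _ _ _) (pullback.lift_snd _ _ _) _ ?_).trans (α.act_self _ _ _ ?_)
        · exact Category.id_comp _
        · exact Category.id_comp _
      rw [← hE, reassoc_of% eκ, ← Scheme.Hom.comp_appTop, hσ, Scheme.Hom.id_appTop]
    exact fun c => RingHom.congr_fun (congrArg CommRingCat.Hom.hom this) c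
  have hcoc : ∀ c, e.toLinearMap.rTensor B (e c) =
      (Algebra.TensorProduct.includeLeft (R := A) (S := A) (A := C) (B := B)).toLinearMap.rTensor B (e c) := by
    let T := CommRingCat.of ((C ⊗[A] B) ⊗[A] B)
    let jL : CommRingCat.of (C ⊗[A] B) ⟶ T := CommRingCat.ofHom Algebra.TensorProduct.includeLeftRingHom
    let jR : B ⟶ T :=
      CommRingCat.ofHom (Algebra.TensorProduct.includeRight (R := A) (A := C ⊗[A] B) (B := B)).toRingHom
    let m₁ : CommRingCat.of (C ⊗[A] B) ⟶ T :=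
      CommRingCat.ofHom (Algebra.TensorProduct.map e (AlgHom.id A B)).toRingHom
    let m₂ : CommRingCat.of (C ⊗[A] B) ⟶ T :=
      CommRingCat.ofHom (Algebra.TensorProduct.map
        (Algebra.TensorProduct.includeLeft (R := A) (S := A) (A := C) (B := B)) (AlgHom.id A B)).toRingHom
    have l1 : iL ≫ m₁ = e₀ ≫ jL := CommRingCat.hom_ext (RingHom.ext fun c => Algebra.TensorProduct.map_tmul e (AlgHom.id A B) c 1)
    have r1 : iR ≫ m₁ = jR := CommRingCat.hom_ext (RingHom.ext fun b => by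
      change Algebra.TensorProduct.map e (AlgHom.id A B) ((1 : C) ⊗ₜ b) = (1 : C ⊗[A] B) ⊗ₜ b
      rw [Algebra.TensorProduct.map_tmul, map_one]; rfl)
    have l2 : iL ≫ m₂ = iL ≫ jL := CommRingCat.hom_ext (RingHom.ext fun c =>
      Algebra.TensorProduct.map_tmul _ (AlgHom.id A B) c 1)
    have r2 : iR ≫ m₂ = jR := CommRingCat.hom_ext (RingHom.ext fun b => by
      change Algebra.TensorProduct.map (Algebra.TensorProduct.includeLeft (R := A) (S := A) (A := C) (B := B))
        (AlgHom.id A B) ((1 : C) ⊗ₜ b) = (1 : C ⊗[A] B) ⊗ₜ b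
      rw [Algebra.TensorProduct.map_tmul, map_one]; rfl)
    let R₂ := pullback (d₁ ≫ h ≫ p) p
    let f₂ : R₂ ⟶ R := pullback.fst (d₁ ≫ h ≫ p) p
    let s₂ : R₂ ⟶ X := pullback.snd (d₁ ≫ h ≫ p) p
    let fCB : A ⟶ CommRingCat.of (C ⊗[A] B) := (h ≫ p).appTop ≫ iL
    have hT₂ : IsPushout fCB p.appTop jL jR := CommRingCat.isPushout_tensorProduct A (C ⊗[A] B) B
    have hR₂ : IsPushout fCB p.appTop (κ.hom ≫ f₂.appTop) s₂.appTop :=
      (isPushout_appTop_of_flat (IsPullback.of_hasPullback (d₁ ≫ h ≫ p) p)).of_iso (Iso.refl _) κ.symm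
        (Iso.refl _) (Iso.refl _) (by
          simp only [fCB, Iso.refl_hom, Category.id_comp, Iso.symm_hom, Scheme.Hom.comp_appTop, Category.assoc,
            ← κL, Iso.hom_inv_id, Category.comp_id]) (by simp) (by simp [f₂]) (by simp [s₂])
    let Φ := hT₂.isoIsPushout _ _ hR₂
    have ΦL : jL ≫ Φ.hom = κ.hom ≫ f₂.appTop := hT₂.inl_isoIsPushout_hom _ _ _
    have ΦR : jR ≫ Φ.hom = s₂.appTop := hT₂.inr_isoIsPushout_hom _ _ _
    let M₁ : R₂ ⟶ R := pullback.lift (f₂ ≫ σ) s₂ (by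
      rw [Category.assoc, α.act_hom_assoc, ← pullback.condition]
      exact pullback.condition)
    let M₂ : R₂ ⟶ R := pullback.lift (f₂ ≫ d₁) s₂ (by
      simp only [Category.assoc]
      exact pullback.condition)
    have hm₁ : m₁ ≫ Φ.hom = κ.hom ≫ M₁.appTop := by
      apply hT.hom_ext
      · rw [reassoc_of% l1, ΦL, reassoc_of% eκ, reassoc_of% κL, ← Scheme.Hom.comp_appTop,
          ← Scheme.Hom.comp_appTop, pullback.lift_fst]
      · rw [reassoc_of% r1, ΦR, reassoc_of% κR, ← Scheme.Hom.comp_appTop, pullback.lift_snd]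
    have hm₂ : m₂ ≫ Φ.hom = κ.hom ≫ M₂.appTop := by
      apply hT.hom_ext
      · rw [reassoc_of% l2, ΦL, reassoc_of% κL, reassoc_of% κL, ← Scheme.Hom.comp_appTop,
          ← Scheme.Hom.comp_appTop, pullback.lift_fst]
      · rw [reassoc_of% r2, ΦR, reassoc_of% κR, ← Scheme.Hom.comp_appTop, pullback.lift_snd]
    have hMσ : M₁ ≫ σ = M₂ ≫ σ := by
      rw [α.comp_act M₁, α.comp_act M₂]
      have a1 : M₁ ≫ d₁ = α.act (f₂ ≫ d₁) (f₂ ≫ d₂) (by simp only [Category.assoc]; rw [hR.w]) := by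
        rw [pullback.lift_fst, α.comp_act]
      have eY : (f₂ ≫ d₁) ≫ h ≫ p = s₂ ≫ p := by
        simp only [Category.assoc]
        exact pullback.condition
      refine (α.congr a1 (pullback.lift_snd _ _ _) _ ?_).trans ((α.act_act _ _ _ _ eY ?_).trans
        (α.congr (pullback.lift_fst _ _ _).symm (pullback.lift_snd _ _ _).symm _ _))
      · rw [α.act_hom_assoc, Category.assoc, ← hR.w, ← Category.assoc]; exact eY
      · rw [α.act_hom_assoc, Category.assoc, ← hR.w, ← Category.assoc]; exact eY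
    have : e₀ ≫ m₁ = e₀ ≫ m₂ := by
      rw [← cancel_mono Φ.hom, Category.assoc, Category.assoc, hm₁, hm₂, reassoc_of% eκ,
        reassoc_of% eκ, ← Scheme.Hom.comp_appTop, ← Scheme.Hom.comp_appTop, hMσ]
    intro c
    have hm : ∀ (f : C →ₐ[A] C ⊗[A] B) z, f.toLinearMap.rTensor B z = Algebra.TensorProduct.map f (AlgHom.id A B) z :=
      fun f z => by
        induction z using TensorProduct.induction_on with
        | zero => simp only [map_zero]
        | add a b ha hb => simp only [map_add, ha, hb]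
        | tmul a b => rfl
    rw [hm, hm]
    exact RingHom.congr_fun (congrArg CommRingCat.Hom.hom this) c
  have hμ := mu_bijective φ e hφ hε hcoc
  let C₀ := invAlg e
  let i₀ : CommRingCat.of C₀ ⟶ C := CommRingCat.ofHom C₀.val.toRingHom
  let g₀ : A ⟶ CommRingCat.of C₀ := CommRingCat.ofHom (algebraMap A C₀)
  let μ : CommRingCat.of (C₀ ⊗[A] B) ≅ C := (RingEquiv.ofBijective (mu φ e).toRingHom hμ).toCommRingCatIso
  have hpo : IsPushout g₀ p.appTop i₀ h.appTop := (CommRingCat.isPushout_tensorProduct A C₀ B).of_iso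
    (Iso.refl _) (Iso.refl _) (Iso.refl _) μ (by simp [g₀]) (by simp; rfl)
    (CommRingCat.hom_ext (RingHom.ext fun c => by
      change mu φ e (c ⊗ₜ (1 : B)) = (c : C)
      simp [mu]))
    (CommRingCat.hom_ext (RingHom.ext fun b => by
      change mu φ e ((1 : C₀) ⊗ₜ b) = φ b
      simp [mu]))
  -- the quotient of the affine hull
  let π₀ : Spec (CommRingCat.of C₀) ⟶ S := Spec.map g₀ ≫ S.isoSpec.inv
  let hC : Spec C ⟶ X := Spec.map h.appTop ≫ X.isoSpec.inv
  let q₀ : Spec C ⟶ Spec (CommRingCat.of C₀) := Spec.map i₀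
  have hpb₀ : IsPullback q₀ hC π₀ p := (isPullback_SpecMap_of_isPushout _ _ _ _ hpo).of_iso
    (Iso.refl _) (Iso.refl _) X.isoSpec.symm S.isoSpec.symm (by simp [q₀]) (by simp [hC]) (by simp [π₀])
    (by simp [Scheme.isoSpec_inv_naturality p])
  let j : V ⟶ Spec C := V.toSpecΓ
  have hj : j ≫ hC = h := by
    simp only [hC, j, ← Scheme.toSpecΓ_naturality_assoc, Scheme.toSpecΓ_isoSpec_inv, Category.comp_id]
  haveI : Flat q₀ := MorphismProperty.of_isPullback hpb₀.flip ‹Flat p›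
  haveI : Surjective q₀ := MorphismProperty.of_isPullback hpb₀.flip ‹Surjective p›
  haveI : QuasiCompact q₀ := MorphismProperty.of_isPullback hpb₀.flip (inferInstance : QuasiCompact p)
  have hinv₀ : i₀ ≫ e₀ = i₀ ≫ iL := CommRingCat.hom_ext (RingHom.ext fun c => c.2)
  have hσq : σ ≫ j ≫ q₀ = d₁ ≫ j ≫ q₀ := by
    simp only [q₀, j, Scheme.toSpecΓ_naturality_assoc, ← Spec.map_comp]
    rw [← eκ, ← κL, reassoc_of% hinv₀]
  have hcompat : ∀ (T : Scheme.{u}) (v : T ⟶ V) (x : T ⟶ X) (he : v ≫ h ≫ p = x ≫ p),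
      α.act v x he ≫ j ≫ q₀ = v ≫ j ≫ q₀ := fun T v x he => by
    let r := hR.lift v x he
    have hact : α.act v x he = r ≫ σ := by
      rw [α.comp_act]
      exact α.congr (hR.lift_fst v x he).symm (hR.lift_snd v x he).symm _ _
    rw [hact, Category.assoc, hσq, ← Category.assoc, hR.lift_fst]
  have hsat : q₀ ⁻¹' (q₀ '' Set.range j) = Set.range j := by
    refine subset_antisymm ?_ (Set.subset_preimage_image _ _)
    rintro b ⟨_, ⟨a, rfl⟩, hab⟩
    obtain ⟨z, hz₁, hz₂⟩ := Scheme.Pullback.exists_preimage_pullback (f := j ≫ q₀) (g := q₀) a b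
      (by rw [Scheme.Hom.comp_apply]; exact hab)
    let v := pullback.fst (j ≫ q₀) q₀
    let w := pullback.snd (j ≫ q₀) q₀
    have he : v ≫ h ≫ p = (w ≫ hC) ≫ p := by
      rw [Category.assoc, ← hpb₀.w, ← hj, Category.assoc, ← hpb₀.w, ← pullback.condition_assoc]
      simp only [v, Category.assoc]
    have hw : α.act v (w ≫ hC) he ≫ j = w := by
      apply hpb₀.hom_ext
      · rw [Category.assoc, hcompat]
        exact pullback.condition
      · rw [Category.assoc, hj, α.act_hom]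
    refine ⟨α.act v (w ≫ hC) he z, ?_⟩
    rw [← Scheme.Hom.comp_apply, hw]
    exact hz₂
  let O : (Spec (CommRingCat.of C₀)).Opens := ⟨q₀ '' Set.range j,
    (Flat.isQuotientMap_of_surjective q₀).isOpen_preimage.1 (hsat.symm ▸ j.isOpenEmbedding.isOpen_range)⟩
  have hr : Set.range (j ≫ q₀) ⊆ Set.range O.ι := by
    rintro _ ⟨t, rfl⟩
    rw [Scheme.Opens.range_ι]
    exact ⟨j t, ⟨t, rfl⟩, (Scheme.Hom.comp_apply _ _ _).symm⟩
  let q := IsOpenImmersion.lift O.ι (j ≫ q₀) hr
  have hq : q ≫ O.ι = j ≫ q₀ := IsOpenImmersion.lift_fac _ _ _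
  have sq : IsPullback q j O.ι q₀ := IsOpenImmersion.isPullback _ _ _ _ hq.symm (by
    rw [Scheme.Opens.opensRange_ι]
    exact Opens.ext hsat)
  refine ⟨O, O.ι ≫ π₀, q, ?_, fun T v x he => ?_⟩
  · have := sq.paste_vert hpb₀
    rwa [hj] at this
  · rw [← cancel_mono O.ι, Category.assoc, Category.assoc, hq, hcompat]

theorem eff_of_isQuasiAffineHom_of_isAffine (hh : MoreMor.IsQuasiAffineHom h) [IsAffine S] [Flat p]
    [Surjective p] [QuasiCompact p] (A : Act h p) : A.Eff := by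
  haveI : CompactSpace X := QuasiCompact.compactSpace_of_compactSpace p
  obtain ⟨X', f, hs, hf, haff⟩ := Scheme.exists_hom_isAffine_of_isZariskiLocalAtSource (P := @IsLocalIso) X
  haveI := hs
  haveI := haff
  haveI : Etale f := IsLocalIso.le_of_isZariskiLocalAtSource @Etale _ _ f hf
  haveI : QuasiCompact h := hh.1
  have hqa := Groth.FlatMor2.isIndQuasiAffineHom_baseChange (IsPullback.of_hasPullback h f)
    (Groth.FlatMor2.isIndQuasiAffineHom_of_isQuasiAffineHom hh)
  haveI : CompactSpace (pullback h f : Scheme.{u}) := QuasiCompact.compactSpace_of_compactSpace (pullback.snd h f)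
  haveI : (pullback h f : Scheme.{u}).IsQuasiAffine := by
    haveI := Groth.FlatMor2.isIndQuasiAffineHom_def.1 hqa ⊤ (isAffineOpen_top _) ⊤ (by simp) isCompact_univ
    exact .of_isAffineHom (pullback h f : Scheme.{u}).topIso.inv
  exact A.eff_of_cover_source (IsPullback.of_hasPullback h f) (eff_of_isQuasiAffine _)

/-- Descent is effective for quasi-affine morphisms. -/
theorem eff_of_isQuasiAffineHom (hh : MoreMor.IsQuasiAffineHom h) [Flat p] [Surjective p] [QuasiCompact p]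
    (A : Act h p) : A.Eff := by
  refine eff_of_cover fun x => ?_
  obtain ⟨_, ⟨O, hO, rfl⟩, hxO, -⟩ :=
    S.isBasis_affineOpens.exists_subset_of_mem_open (Set.mem_univ ((h ≫ p) x)) isOpen_univ
  haveI : IsAffine (Scheme.Opens.toScheme O) := hO
  haveI : Flat (p ∣_ O) := IsZariskiLocalAtTarget.restrict ‹_› O
  haveI : Surjective (p ∣_ O) := IsZariskiLocalAtTarget.restrict ‹_› O
  haveI : QuasiCompact (p ∣_ O) := IsZariskiLocalAtTarget.restrict ‹_› O
  haveI : QuasiCompact h := hh.1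
  have hh' : MoreMor.IsQuasiAffineHom (h ∣_ (p ⁻¹ᵁ O)) := by
    refine ⟨IsZariskiLocalAtTarget.restrict ‹_› _, fun W hW => ?_⟩
    haveI := hh.2 _ (hW.image_of_isOpenImmersion (p ⁻¹ᵁ O).ι)
    exact .of_isAffineHom (((h ⁻¹ᵁ (p ⁻¹ᵁ O)).ι.isoImage _).hom ≫
      (V.isoOfEq (image_morphismRestrict_preimage h (p ⁻¹ᵁ O) W)).hom)
  exact ⟨_, hxO, A.stable_preimage O, A.effOn_preimage (eff_of_isQuasiAffineHom_of_isAffine hh' _)⟩

end Groth.Pi1Desc.Act
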